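import Cfsg.Agent.H951.Two.Reg
import Cfsg.Agent.H200.LinFixC

/-!
# Linear algebra for the two types of elements of order `u` (helper951, S5734)

* `exists_fixed`: fixed vectors of `p`-groups in characteristic `p`;
* `no_normaliser`: `dim V ≤ e + 1`: an element of order `u` does not normalise a nontrivial `p`-group of isometries;
* `card_le_natDegree`: the number of elements commuting with an irreducible one and annihilated by a polynomial.
-/

set_option autoImplicit false
set_option linter.unusedSectionVars false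

namespace Cfsg.Agent.H951.Two

open Module Cfsg.Agent.H200.LinFix

section

variable {F V : Type*} [Field F] [Finite F] [AddCommGroup V] [Module F V] [Finite V] {H : Type*} [Group H] [Finite H]
  (τ : H →* Module.End F V)

omit [Finite F] [Finite V] [Finite H] in
theorem inv_apply (h : H) (v : V) : τ h⁻¹ (τ h v) = v := by
  rw [← Module.End.mul_apply, ← map_mul, inv_mul_cancel, map_one, Module.End.one_apply]

omit [Finite F] [Finite V] [Finite H] in
theorem apply_inv (h : H) (v : V) : τ h (τ h⁻¹ v) = v := by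
  rw [← Module.End.mul_apply, ← map_mul, mul_inv_cancel, map_one, Module.End.one_apply]

/-- a nonzero fixed vector of a `p`-group -/
theorem exists_fixed {p : ℕ} [hp : Fact p.Prime] [CharP F p] {S : Subgroup H} (hS : IsPGroup p S) {U : Submodule F V}
    (hU : U ≠ ⊥) (hinv : ∀ s ∈ S, ∀ v ∈ U, τ s v ∈ U) : ∃ v ∈ U, v ≠ 0 ∧ ∀ s ∈ S, τ s v = v := by
  classical
  let _ : MulAction S U :=
    { smul := fun s v => ⟨τ s.1 v.1, hinv s.1 s.2 v.1 v.2⟩
      one_smul := fun v => by
        apply Subtype.ext
        change τ 1 v.1 = v.1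
        rw [map_one, Module.End.one_apply]
      mul_smul := fun s t v => by
        apply Subtype.ext
        change τ (s.1 * t.1) v.1 = τ s.1 (τ t.1 v.1)
        rw [map_mul, Module.End.mul_apply] }
  have h1 := hS.card_modEq_card_fixedPoints U
  have hpU : p ∣ Nat.card U := by
    have h2 : Nat.card U = Nat.card F ^ finrank F U := Module.natCard_eq_pow_finrank
    have h3 : Nontrivial U := Submodule.nontrivial_iff_ne_bot.2 hU
    have h4 : 0 < finrank F U := Module.finrank_pos
    rw [h2]
    have : Fintype F := Fintype.ofFinite F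
    obtain ⟨n, -, hn⟩ := FiniteField.card F p
    rw [Nat.card_eq_fintype_card, hn]
    exact dvd_pow (dvd_pow_self p n.ne_zero) h4.ne'
  have h2 : p ∣ Nat.card (MulAction.fixedPoints S U) := (Nat.modEq_zero_iff_dvd.1 (h1.symm.trans (Nat.modEq_zero_iff_dvd.2 hpU)))
  have h0 : (0 : U) ∈ MulAction.fixedPoints S U := fun s => by
    apply Subtype.ext
    change τ s.1 0 = 0
    rw [map_zero]
  have h3 : 1 < Nat.card (MulAction.fixedPoints S U) := by
    have h4 : 0 < Nat.card (MulAction.fixedPoints S U) := Nat.card_pos_iff.2 ⟨⟨⟨0, h0⟩⟩, inferInstance⟩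
    exact lt_of_lt_of_le hp.out.one_lt (Nat.le_of_dvd h4 h2)
  have h5 := Finite.one_lt_card_iff_nontrivial.1 h3
  obtain ⟨⟨v, hv⟩, hne⟩ := exists_ne (⟨0, h0⟩ : MulAction.fixedPoints S U)
  refine ⟨v.1, v.2, fun h => hne (Subtype.ext (Subtype.ext h)), fun s hs => ?_⟩
  exact congrArg Subtype.val (hv ⟨s, hs⟩)

/-- the fixed space of a subgroup -/
def fixS (S : Subgroup H) : Submodule F V where
  carrier := {v | ∀ s ∈ S, τ s v = v}
  add_mem' {a b} ha hb s hs := by rw [map_add, ha s hs, hb s hs]
  zero_mem' s _ := map_zero _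
  smul_mem' c v hv s hs := by rw [map_smul, hv s hs]

omit [Finite F] [Finite V] [Finite H] in
theorem mem_fixS {S : Subgroup H} {v : V} : v ∈ fixS τ S ↔ ∀ s ∈ S, τ s v = v := Iff.rfl

theorem conj_mem {S : Subgroup H} {y : H} (hyS : ∀ s ∈ S, y * s * y⁻¹ ∈ S) : ∀ s ∈ S, y⁻¹ * s * y ∈ S := by
  have key : ∀ n : ℕ, ∀ s ∈ S, y ^ n * s * (y ^ n)⁻¹ ∈ S := by
    intro n
    induction n with
    | zero => intro s hs; simpa using hs
    | succ n ih =>
      intro s hs
      have h1 : y ^ (n + 1) * s * (y ^ (n + 1))⁻¹ = y * (y ^ n * s * (y ^ n)⁻¹) * y⁻¹ := by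
        rw [pow_succ' y n, mul_inv_rev]; group
      rw [h1]
      exact hyS _ (ih s hs)
  intro s hs
  have h1 : y⁻¹ = y ^ (orderOf y - 1) := by
    rw [inv_eq_iff_mul_eq_one, ← pow_succ', Nat.sub_add_cancel (orderOf_pos y), pow_orderOf_eq_one]
  have h2 := key (orderOf y - 1) s hs
  rw [← h1, inv_inv] at h2
  exact h2

/-- **An element of order `u` does not normalise a nontrivial `p`-group of isometries**, `dim V ≤ e + 1`. -/
theorem no_normaliser {p u e : ℕ} [hp : Fact p.Prime] [hu : Fact u.Prime] [CharP F p] (hd : Ordd u (Nat.card F) e)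
    (he : 2 ≤ e) (huF : (u : F) ≠ 0) (hτ : Function.Injective τ) (hdim : finrank F V ≤ e + 1)
    (b : LinearMap.BilinForm F V) (hb2 : ∀ w, (∀ v, b v w = 0) → w = 0)
    (hinv : ∀ h v w, b (τ h v) (τ h w) = b v w) {S : Subgroup H} (hS : IsPGroup p S) (hS1 : S ≠ ⊥) {y : H}
    (hy : orderOf y = u) (hyS : ∀ s ∈ S, y * s * y⁻¹ ∈ S) : False := by
  set g := τ y with hg
  have hgu : g ^ u = 1 := by rw [hg, ← map_pow, ← hy, pow_orderOf_eq_one, map_one]
  have hg1 : g ≠ 1 := by
    intro h
    have h1 : y = 1 := hτ (h.trans (map_one τ).symm)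
    rw [h1, orderOf_one] at hy
    exact hu.out.one_lt.ne hy
  set D := fixS τ S with hD
  have hDy : ∀ v ∈ D, g v ∈ D := by
    intro v hv s hs
    have h1 : τ s (g v) = g (τ (y⁻¹ * s * y) v) := by
      rw [hg, ← Module.End.mul_apply, ← Module.End.mul_apply, ← map_mul, ← map_mul]
      congr 2
      group
    rw [h1, hv _ (conj_mem hyS s hs)]
  -- dimensions
  have hRpos : 0 < finrank F (R g) := by
    have h1 : Nontrivial (R g) := Submodule.nontrivial_iff_ne_bot.2 (R_ne_bot hg1)
    exact Module.finrank_pos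
  have hRe : e ≤ finrank F (R g) := Nat.le_of_dvd hRpos (dvd_finrank_R hd huF hgu)
  have hsum := finrank_add (F := F) g
  have hK1 : finrank F (K g) ≤ 1 := by omega
  have hirr : Irr g (R g) := irr_of_lt hd huF hgu le_rfl (fun w hw => R_inv rfl hw)
    (lt_of_le_of_lt (Submodule.finrank_le _) (by omega))
  -- `K ⊥ R`
  have hKR : ∀ k ∈ K g, ∀ r ∈ R g, b k r = 0 ∧ b r k = 0 := by
    rintro k hk _ ⟨w, rfl⟩
    rw [mem_K] at hk
    have h1 := hinv y k w
    have h2 := hinv y w k
    rw [← hg, hk] at h1 h2
    constructor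
    · change b k (g w - w) = 0
      rw [map_sub, h1, sub_self]
    · change b (g w - w) k = 0
      rw [map_sub, LinearMap.sub_apply, h2, sub_self]
  have hVne : (⊤ : Submodule F V) ≠ ⊥ := by
    intro h
    apply R_ne_bot hg1
    rw [eq_bot_iff, ← h]
    exact le_top
  have hKle : ∀ {U : Submodule F V} {v : V}, v ∈ U → v ≠ 0 → v ∈ K g → K g ≤ U := by
    intro U v hv hv0 hvK
    have h1 : F ∙ v = K g := by
      apply Submodule.eq_of_le_of_finrank_le
      · rw [Submodule.span_singleton_le_iff_mem]
        exact hvK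
      · rw [finrank_span_singleton hv0]
        exact hK1
    rw [← h1, Submodule.span_singleton_le_iff_mem]
    exact hv
  -- `S` acts nontrivially
  have hDtop : D ≠ ⊤ := by
    intro h
    apply hS1
    rw [eq_bot_iff]
    intro s hs
    rw [Subgroup.mem_bot]
    apply hτ
    rw [map_one]
    refine LinearMap.ext fun v => ?_
    have h1 : v ∈ D := by rw [h]; exact Submodule.mem_top
    exact h1 s hs
  by_cases hDK : D ≤ K g
  · -- the orthogonal space of `D`
    let U : Submodule F V :=
      { carrier := {w | ∀ d ∈ D, b d w = 0}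
        add_mem' := fun {v w} hv hw d hd => by rw [map_add, hv d hd, hw d hd, add_zero]
        zero_mem' := fun d _ => map_zero _
        smul_mem' := fun c v hv d hd => by rw [map_smul, hv d hd, smul_zero] }
    have hRU : R g ≤ U := fun r hr d hd => (hKR d (hDK hd) r hr).1
    have hUne : U ≠ ⊥ := fun h => R_ne_bot hg1 (eq_bot_iff.2 (h ▸ hRU))
    obtain ⟨w, hwU, hw0, hwS⟩ := exists_fixed τ hS hUne (by
      intro s hs v hv d hd
      have h1 := hinv s d v
      rw [hd s hs] at h1
      rw [h1]
      exact hv d hd)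
    have hwD : w ∈ D := hwS
    have hwK := hDK hwD
    apply hw0
    apply hb2
    intro v
    obtain ⟨k, hk, r, hr, rfl⟩ := decomp hgu huF v
    rw [map_add, LinearMap.add_apply, (hKR w hwK r hr).2, add_zero]
    exact hwU k (hKle hwD hw0 hwK hk)
  · -- `R g ≤ D`
    obtain ⟨d, hdD, hdK⟩ := Set.not_subset.1 hDK
    have hRD : R g ≤ D := by
      rcases hirr (D ⊓ R g) inf_le_right (fun v hv => ⟨hDy v hv.1, R_inv rfl hv.2⟩) with h | h
      · exfalso
        have h1 : g d - d ∈ D ⊓ R g := ⟨Submodule.sub_mem _ (hDy d hdD) hdD, sub_mem_R g d⟩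
        rw [h, Submodule.mem_bot, sub_eq_zero] at h1
        exact hdK (mem_K.2 h1)
      · rw [← h]; exact inf_le_left
    by_cases hK0 : K g = ⊥
    · apply hDtop
      rw [eq_top_iff]
      intro v _
      obtain ⟨k, hk, r, hr, rfl⟩ := decomp hgu huF v
      rw [hK0, Submodule.mem_bot] at hk
      rw [hk, zero_add]
      exact hRD hr
    · let U : Submodule F V :=
        { carrier := {w | ∀ r ∈ R g, b r w = 0}
          add_mem' := fun {v w} hv hw d hd => by rw [map_add, hv d hd, hw d hd, add_zero]
          zero_mem' := fun d _ => map_zero _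
          smul_mem' := fun c v hv d hd => by rw [map_smul, hv d hd, smul_zero] }
      have hKU : K g ≤ U := fun k hk r hr => (hKR k hk r hr).2
      have hUne : U ≠ ⊥ := fun h => hK0 (eq_bot_iff.2 (h ▸ hKU))
      obtain ⟨w, hwU, hw0, hwS⟩ := exists_fixed τ hS hUne (by
        intro s hs v hv r hr
        have h1 := hinv s r v
        rw [hRD hr s hs] at h1
        rw [h1]
        exact hv r hr)
      obtain ⟨k, hk, r, hr, hkr⟩ := decomp hgu huF w
      have hkD : k ∈ D := by
        have h1 : k = w - r := by rw [hkr]; abel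
        rw [h1]
        exact Submodule.sub_mem _ hwS (hRD hr)
      have hk0 : k ≠ 0 := by
        rintro rfl
        rw [zero_add] at hkr
        apply hw0
        apply hb2
        intro v
        obtain ⟨k', hk', r', hr', rfl⟩ := decomp hgu huF v
        rw [map_add, LinearMap.add_apply, hwU r' hr', add_zero, hkr]
        exact (hKR k' hk' r hr).1
      apply hDtop
      rw [eq_top_iff]
      intro v _
      obtain ⟨k', hk', r', hr', rfl⟩ := decomp hgu huF v
      exact Submodule.add_mem _ (hKle hkD hk0 hk hk') (hRD hr')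

end

section

open Polynomial

variable {F V : Type*} [Field F] [AddCommGroup V] [Module F V]

theorem aeval_restrict {a : Module.End F V} {W : Submodule F V} (h : ∀ w ∈ W, a w ∈ W) (f : F[X]) (w : W) :
    ((aeval (a.restrict h) f w : W) : V) = aeval a f w := by
  have hpow : ∀ (n : ℕ) (w : W), (((a.restrict h) ^ n) w : V) = (a ^ n) w := by
    intro n
    induction n with
    | zero => intro w; rfl
    | succ n ih =>
      intro w
      rw [pow_succ, pow_succ, Module.End.mul_apply, Module.End.mul_apply, ih]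
      rfl
  induction f using Polynomial.induction_on' with
  | add P Q hP hQ => rw [map_add, map_add, LinearMap.add_apply, LinearMap.add_apply, Submodule.coe_add, hP, hQ]
  | monomial n c =>
    rw [aeval_monomial, aeval_monomial, Module.End.mul_apply, Module.End.mul_apply, Module.algebraMap_end_apply,
      Module.algebraMap_end_apply, Submodule.coe_smul, hpow]

/-- **Counting the elements commuting with an irreducible one which are annihilated by a polynomial.** -/
theorem card_le_natDegree [Finite V] {g : Module.End F V} {W : Submodule F V} (hg : ∀ w ∈ W, g w ∈ W)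
    (hirr : Irr g W) (hW : W ≠ ⊥) {f : F[X]} (hf : f ≠ 0) {α : Type*} (X : Finset α) (m : α → Module.End F V) {k : ℕ}
    (h1 : ∀ x ∈ X, ∀ w ∈ W, m x w ∈ W) (h2 : ∀ x ∈ X, ∀ w ∈ W, m x (g w) = g (m x w))
    (h3 : ∀ x ∈ X, ∀ w ∈ W, aeval (m x) f w = 0)
    (h4 : ∀ x ∈ X, ∀ Y ⊆ X, (∀ y ∈ Y, ∀ w ∈ W, m y w = m x w) → Y.card ≤ k) : X.card ≤ k * f.natDegree := by
  classical
  have hnt : Nontrivial W := Submodule.nontrivial_iff_ne_bot.2 hW
  set g' : Module.End F W := g.restrict hg with hg'
  have hirr' := hirr.restrict hg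
  have hP : Fact (Irreducible (minpoly F g')) := ⟨irreducible_minpoly hirr'⟩
  have hnt' : Nontrivial (Module.End F W) := Module.End.instNontrivial
  have hinj : Function.Injective (phi g') := (phi g').toRingHom.injective
  have hφ : ∀ x ∈ X, ∃ c : KK g', ∀ w : W, m x w = phi g' c w := by
    intro x hx
    obtain ⟨c, hc⟩ := exists_phi hirr' (s := (m x).restrict (h1 x hx)) (by
      ext w
      exact h2 x hx w w.2)
    exact ⟨c, fun w => by rw [← hc]; rfl⟩
  choose! χ hχ using hφ
  have himg : X.image χ ⊆ (f.map (algebraMap F (KK g'))).roots.toFinset := by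
    intro c hc
    obtain ⟨x, hx, rfl⟩ := Finset.mem_image.1 hc
    rw [Multiset.mem_toFinset, mem_roots (Polynomial.map_ne_zero hf), IsRoot.def, eval_map_algebraMap]
    apply hinj
    rw [map_zero, ← aeval_algHom_apply]
    have h5 : phi g' (χ x) = (m x).restrict (h1 x hx) := by
      ext w
      exact (hχ x hx w).symm
    rw [h5]
    ext w
    rw [aeval_restrict]
    exact h3 x hx w w.2
  have h6 : X.card ≤ k * (X.image χ).card := by
    apply Finset.card_le_mul_card_image
    intro c hc
    obtain ⟨x, hx, rfl⟩ := Finset.mem_image.1 hc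
    refine h4 x hx _ (Finset.filter_subset _ _) ?_
    intro y hy w hw
    rw [Finset.mem_filter] at hy
    have h7 := hχ y hy.1 ⟨w, hw⟩
    have h8 := hχ x hx ⟨w, hw⟩
    rw [hy.2] at h7
    exact h7.trans h8.symm
  refine h6.trans (Nat.mul_le_mul_left _ ?_)
  refine (Finset.card_le_card himg).trans ((Multiset.toFinset_card_le _).trans ?_)
  exact (card_roots' _).trans (natDegree_map_le)

end

end Cfsg.Agent.H951.Two
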