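import Cfsg.Agent.H951.Two.Orth
import Cfsg.Agent.H278.ElAltNum

/-!
# The row with two types of elements of order `u` (helper951, S5734, task 2834)

`two_row`: `T` one of `PSp_{2m}(q)`, `Ω_{2m+1}(q)`, `PΩ^+_{2m}(q)`, `m ≥ 4` even the order of `q` modulo the prime `u`,
`R ≤ T` with cyclic Sylow `u`-subgroups: `3 |T| ≤ 20 n nd(R)`, `n` the dimension of the natural module.
-/

set_option autoImplicit false
set_option linter.unusedSectionVars false

namespace Cfsg.Agent.H951.Two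

open Cfsg Module Cfsg.Agent.H200.LinFix Cfsg.Agent.H264.FKS Cfsg.Agent.H436 Matrix Cfsg.Agent.OrdDiv
  Cfsg.Agent.H915.GN Cfsg.Agent.H264.GN QuadraticMap Cfsg.Agent.LieClassical.OmegaReindex

section

variable {F : Type} [Field F] [Fintype F] {m : ℕ}

/-- `SL_m → Ω`. -/
theorem exists_hom {ι : Type} [Fintype ι] [DecidableEq ι] (Q : (ι → F) → F) (hm : 3 ≤ m)
    (j : GL (Fin m) F →* Matrix ι ι F) (hj : Function.Injective j) (hQ : ∀ A v, Q (j A *ᵥ v) = Q v) :
    ∃ J : SpecialLinearGroup (Fin m) F →* Omega F Q, Function.Injective J ∧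
      ∀ A v, lin (toGLOm Q) (J A) v = j (SpecialLinearGroup.toGL A) *ᵥ v := by
  let j1 : GL (Fin m) F →* GL ι F := j.toHomUnits
  let j2 : GL (Fin m) F →* Cfsg.isometryGroup F Q := j1.codRestrict _ (fun A => by
    intro u v
    exact hQ A u)
  let j3 : SpecialLinearGroup (Fin m) F →* Cfsg.isometryGroup F Q := j2.comp SpecialLinearGroup.toGL
  have hperf : commutator (SpecialLinearGroup (Fin m) F) = ⊤ :=
    Cfsg.Agent.LieClassical.SLGen.commutator_eq_top (by rwa [Fintype.card_fin])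
  let j4 : SpecialLinearGroup (Fin m) F →* Cfsg.Omega F Q :=
    j3.codRestrict _ (fun A => H934.IdxCl.mem_commutator_of_perfect hperf j3 A)
  refine ⟨j4, ?_, fun A v => rfl⟩
  intro A B h
  have h1 : j3 A = j3 B := congrArg Subtype.val h
  have h2 : j1 (SpecialLinearGroup.toGL A) = j1 (SpecialLinearGroup.toGL B) := congrArg Subtype.val h1
  have h3 : j (SpecialLinearGroup.toGL A) = j (SpecialLinearGroup.toGL B) := congrArg Units.val h2
  exact Subtype.ext (congrArg (fun g : GL (Fin m) F => (g : Matrix (Fin m) (Fin m) F)) (hj h3))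

/-! ### `PΩ⁺` -/

theorem split_plus : Split (polarBilin (quadPlus m F)) (LinearMap.range (inL (Fin m) (Fin m) F))
    (LinearMap.range (inR (Fin m) (Fin m) F)) ⊥ m where
  sum v := ⟨_, ⟨_, rfl⟩, _, ⟨_, rfl⟩, 0, Submodule.zero_mem _, by rw [add_zero]; exact eq_inL_add_inR v⟩
  b11 := by
    rintro _ ⟨x, rfl⟩ _ ⟨y, rfl⟩
    simp [polar_quadPlus, inL_apply]
  b22 := by
    rintro _ ⟨x, rfl⟩ _ ⟨y, rfl⟩
    simp [polar_quadPlus, inR_apply]
  b10 := by
    intro v _ w hw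
    rw [(Submodule.mem_bot F).1 hw, map_zero]
  b01 := by
    intro w hw v _
    rw [(Submodule.mem_bot F).1 hw, map_zero, LinearMap.zero_apply]
  b20 := by
    intro v _ w hw
    rw [(Submodule.mem_bot F).1 hw, map_zero]
  b02 := by
    intro w hw v _
    rw [(Submodule.mem_bot F).1 hw, map_zero, LinearMap.zero_apply]
  f1 := by rw [LinearMap.finrank_range_of_inj inL_injective, Module.finrank_fintype_fun_eq_card, Fintype.card_fin]
  f2 := by rw [LinearMap.finrank_range_of_inj inR_injective, Module.finrank_fintype_fun_eq_card, Fintype.card_fin]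
  f0 := by rw [finrank_bot]; omega
  nd1 := quadPlus_nondegenerate.1
  nd2 := quadPlus_nondegenerate.2

theorem good_plus {r : ℕ} (hm : 4 ≤ m) (he : m % 2 = 0) (hr : Prim (Nat.card F) m r) :
    ∃ d : Omega F (⇑(quadPlus m F)), Good (lin (toGLOm ⇑(quadPlus m F))) (LinearMap.range (inL (Fin m) (Fin m) F))
      (LinearMap.range (inR (Fin m) (Fin m) F)) ⊥ r (Nat.card F ^ (m / 2) + 1) d := by
  obtain ⟨J, hJ, hJv⟩ := exists_hom (⇑(quadPlus m F)) (by omega) (H934.IdxCl.lev m F) H934.IdxCl.lev_injective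
    (fun A v => by rw [coe_quadPlus]; exact H934.IdxCl.quadFormPlus_lev A v)
  refine exists_good _ hm he hr J hJ _ inL_injective (fun A x => ?_) (fun A => ?_) (fun A v hv => ?_)
  · rw [hJv, H934.IdxCl.lev_mulVec, inL_apply, inL_apply, Sum.elim_comp_inl, Sum.elim_comp_inr, mulVec_zero]
    rfl
  · rintro _ ⟨x, rfl⟩
    rw [hJv, H934.IdxCl.lev_mulVec, inR_apply, Sum.elim_comp_inl, Sum.elim_comp_inr, mulVec_zero]
    exact ⟨_, rfl⟩
  · rw [(Submodule.mem_bot F).1 hv, map_zero]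
    exact Submodule.zero_mem _

/-! ### `Ω_{2m+1}` -/

theorem inRL_injective :
    Function.Injective ⇑((inR Unit (Fin m ⊕ Fin m) F).comp (inL (Fin m) (Fin m) F)) := fun _ _ h =>
  inL_injective (inR_injective h)

theorem inRR_injective :
    Function.Injective ⇑((inR Unit (Fin m ⊕ Fin m) F).comp (inR (Fin m) (Fin m) F)) := fun _ _ h =>
  inR_injective (inR_injective h)

theorem split_odd (h2 : (2 : F) ≠ 0) : Split (polarBilin (quadOdd m F))
    (LinearMap.range ((inR Unit (Fin m ⊕ Fin m) F).comp (inL (Fin m) (Fin m) F)))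
    (LinearMap.range ((inR Unit (Fin m ⊕ Fin m) F).comp (inR (Fin m) (Fin m) F)))
    (LinearMap.range (inL Unit (Fin m ⊕ Fin m) F)) m where
  sum v := ⟨_, ⟨_, rfl⟩, _, ⟨_, rfl⟩, _, ⟨_, rfl⟩, by
    rw [LinearMap.comp_apply, LinearMap.comp_apply, ← map_add, ← eq_inL_add_inR (v ∘ Sum.inr), add_comm]
    exact eq_inL_add_inR v⟩
  b11 := by
    rintro _ ⟨x, rfl⟩ _ ⟨y, rfl⟩
    simp [polar_quadOdd, inL_apply, inR_apply]
  b22 := by
    rintro _ ⟨x, rfl⟩ _ ⟨y, rfl⟩
    simp [polar_quadOdd, inR_apply]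
  b10 := by
    rintro _ ⟨x, rfl⟩ _ ⟨y, rfl⟩
    simp [polar_quadOdd, inL_apply, inR_apply]
  b01 := by
    rintro _ ⟨x, rfl⟩ _ ⟨y, rfl⟩
    simp [polar_quadOdd, inL_apply, inR_apply]
  b20 := by
    rintro _ ⟨x, rfl⟩ _ ⟨y, rfl⟩
    simp [polar_quadOdd, inL_apply, inR_apply]
  b02 := by
    rintro _ ⟨x, rfl⟩ _ ⟨y, rfl⟩
    simp [polar_quadOdd, inL_apply, inR_apply]
  f1 := by
    rw [LinearMap.finrank_range_of_inj inRL_injective, Module.finrank_fintype_fun_eq_card,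
      Fintype.card_fin]
  f2 := by
    rw [LinearMap.finrank_range_of_inj inRR_injective, Module.finrank_fintype_fun_eq_card,
      Fintype.card_fin]
  f0 := by
    rw [LinearMap.finrank_range_of_inj inL_injective, Module.finrank_fintype_fun_eq_card, Fintype.card_unit]
  nd1 := (quadOdd_nondegenerate h2).1
  nd2 := (quadOdd_nondegenerate h2).2

theorem good_odd {r : ℕ} (hm : 4 ≤ m) (he : m % 2 = 0) (hr : Prim (Nat.card F) m r) :
    ∃ d : Omega F (⇑(quadOdd m F)), Good (lin (toGLOm ⇑(quadOdd m F)))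
      (LinearMap.range ((inR Unit (Fin m ⊕ Fin m) F).comp (inL (Fin m) (Fin m) F)))
      (LinearMap.range ((inR Unit (Fin m ⊕ Fin m) F).comp (inR (Fin m) (Fin m) F)))
      (LinearMap.range (inL Unit (Fin m ⊕ Fin m) F)) r (Nat.card F ^ (m / 2) + 1) d := by
  have hj : ∀ (A : GL (Fin m) F) (v : Unit ⊕ (Fin m ⊕ Fin m) → F),
      ((H934.IdxCl.pre Unit (Fin m ⊕ Fin m) F).comp (H934.IdxCl.lev m F)) A *ᵥ v =
        Sum.elim (v ∘ Sum.inl) (H934.IdxCl.lev m F A *ᵥ (v ∘ Sum.inr)) := by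
    intro A v
    change fromBlocks (1 : Matrix Unit Unit F) 0 0 (H934.IdxCl.lev m F A) *ᵥ v = _
    rw [fromBlocks_mulVec]
    simp
  obtain ⟨J, hJ, hJv⟩ := exists_hom (⇑(quadOdd m F)) (by omega)
    ((H934.IdxCl.pre Unit (Fin m ⊕ Fin m) F).comp (H934.IdxCl.lev m F)) (by
      intro A B h
      have h1 : fromBlocks (1 : Matrix Unit Unit F) 0 0 (H934.IdxCl.lev m F A) =
        fromBlocks 1 0 0 (H934.IdxCl.lev m F B) := h
      rw [fromBlocks_inj] at h1
      exact H934.IdxCl.lev_injective h1.2.2.2)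
    (fun A v => by
      rw [hj, coe_quadOdd]
      have h2 := H934.IdxCl.quadFormPlus_lev A (v ∘ Sum.inr)
      change v (Sum.inl ()) ^ 2 + Cfsg.quadFormPlus m F (H934.IdxCl.lev m F A *ᵥ (v ∘ Sum.inr)) =
        v (Sum.inl ()) ^ 2 + Cfsg.quadFormPlus m F (v ∘ Sum.inr)
      rw [h2])
  refine exists_good _ hm he hr J hJ _ inRL_injective (fun A x => ?_) (fun A => ?_)
    (fun A => ?_)
  · rw [hJv, hj, LinearMap.comp_apply, LinearMap.comp_apply, inR_apply, inR_apply, Sum.elim_comp_inl,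
      Sum.elim_comp_inr, H934.IdxCl.lev_mulVec, inL_apply, inL_apply, Sum.elim_comp_inl, Sum.elim_comp_inr, mulVec_zero]
    rfl
  · rintro _ ⟨x, rfl⟩
    rw [hJv, hj, LinearMap.comp_apply, inR_apply, inR_apply, Sum.elim_comp_inl,
      Sum.elim_comp_inr, H934.IdxCl.lev_mulVec, Sum.elim_comp_inl, Sum.elim_comp_inr, mulVec_zero]
    exact ⟨_, rfl⟩
  · rintro _ ⟨x, rfl⟩
    rw [hJv, hj, inL_apply, Sum.elim_comp_inl, Sum.elim_comp_inr, mulVec_zero]
    exact ⟨_, rfl⟩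

end

/-! ### Named groups -/

theorem cyc_comap {r : ℕ} {T S : Type*} [Group T] [Group S] (Φ : T ≃* S) {R : Subgroup T} (hR : Cyc r R) :
    Cyc r (R.comap Φ.symm.toMonoidHom) := by
  refine hR.of_injective ((Φ.symm.toMonoidHom.comp (R.comap Φ.symm.toMonoidHom).subtype).codRestrict R
    fun x => x.2) fun x y hxy => ?_
  exact Subtype.ext (Φ.symm.injective (congrArg Subtype.val hxy))

theorem named_psp {T : Type} [Group T] {m q r : ℕ} (hT : IsNamed (.psp m q) T) (hr : Prim q m r) (hm : 4 ≤ m)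
    (he : m % 2 = 0) (R : Subgroup T) (hR : Cyc r R) : 3 * Nat.card T ≤ 20 * (2 * m) * H851.Dg.nd R := by
  obtain ⟨F, _, _, hF, ⟨Φ⟩⟩ := hT.real
  rw [← hF, ← Nat.card_eq_fintype_card] at hr
  have h1 := two_psp hr hm he _ (cyc_comap Φ hR)
  rwa [H851.Dg.nd_comap_equiv Φ.symm R, ← Nat.card_congr Φ.toEquiv] at h1

theorem named_oodd {T : Type} [Group T] {m q r : ℕ} (hT : IsNamed (.oodd m q) T) (hr : Prim q m r) (hm : 4 ≤ m)
    (he : m % 2 = 0) (R : Subgroup T) (hR : Cyc r R) : 3 * Nat.card T ≤ 20 * (2 * m + 1) * H851.Dg.nd R := by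
  have hc : 2 * Nat.card T = q ^ (m ^ 2) * prB q m := hT.eq
  obtain ⟨F, _, _, hF, ⟨Φ⟩⟩ := hT.real
  have h5 := lt_of_prim hr
  have hq : 2 ≤ q := by rw [← hF]; exact Fintype.one_lt_card
  obtain ⟨b, hb, hb'⟩ := exists_pow hr (by omega) hq (fun h => by have := Nat.le_of_dvd (by norm_num) h; omega) hc
    ((prod_dvd (by omega) he).mul_left _)
  rw [Nat.card_congr Φ.toEquiv] at hb
  have h2 : (2 : F) ≠ 0 := by
    have hodd : Odd (Fintype.card F) := by rw [hF]; exact hT.cond.2.1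
    intro h0
    have : CharP F 2 := CharTwo.of_one_ne_zero_of_two_eq_zero one_ne_zero h0
    obtain ⟨k, -, hk⟩ := FiniteField.card F 2
    rw [hk] at hodd
    have := (Nat.odd_pow_iff k.ne_zero).1 hodd
    exact absurd this (by decide)
  rw [← hF, ← Nat.card_eq_fintype_card] at hr hb'
  have hcard : Fintype.card (Unit ⊕ (Fin m ⊕ Fin m)) = 2 * m + 1 := by simp; ring
  have hgood := good_odd hm he hr
  rw [coe_quadOdd] at hgood
  obtain ⟨d, hd⟩ := hgood
  have key := two_pomega (quadOdd m F) (quadOdd_nondegenerate h2) (quadOdd_isotropic (by omega)) hr hm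
    (by rw [hcard]) (by rw [hcard]; omega) (b := b)
  rw [coe_quadOdd, hcard] at key
  have h1 := key hb hb' (split_odd h2) hd _ (cyc_comap Φ hR)
  rwa [H851.Dg.nd_comap_equiv Φ.symm R, ← Nat.card_congr Φ.toEquiv] at h1

theorem named_oplus {T : Type} [Group T] {m q r : ℕ} (hT : IsNamed (.oplus m q) T) (hr : Prim q m r) (hm : 4 ≤ m)
    (he : m % 2 = 0) (R : Subgroup T) (hR : Cyc r R) : 3 * Nat.card T ≤ 20 * (2 * m) * H851.Dg.nd R := by
  have hc : Nat.gcd 4 (q ^ m - 1) * Nat.card T = q ^ (m * (m - 1)) * ((q ^ m - 1) * prB q (m - 1)) := hT.eq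
  obtain ⟨F, _, _, hF, ⟨Φ⟩⟩ := hT.real
  have h5 := lt_of_prim hr
  have hq : 2 ≤ q := by rw [← hF]; exact Fintype.one_lt_card
  obtain ⟨b, hb, hb'⟩ := exists_pow hr (by omega) hq (fun h => by
    have := Nat.le_of_dvd (by norm_num) (h.trans (Nat.gcd_dvd_left _ _)); omega) hc
    (Dvd.dvd.mul_left (Nat.mul_dvd_mul_left _ (by
      rw [prB_eq]
      have h6 := Finset.dvd_prod_of_mem (fun i => q ^ (2 * (i + 1)) - 1)
        (Finset.mem_range.mpr (by omega : m / 2 - 1 < m - 1))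
      rwa [show 2 * (m / 2 - 1 + 1) = m by omega] at h6)) _)
  rw [Nat.card_congr Φ.toEquiv] at hb
  rw [← hF, ← Nat.card_eq_fintype_card] at hr hb'
  have hcard : Fintype.card (Fin m ⊕ Fin m) = 2 * m := by simp; ring
  have hgood := good_plus hm he hr
  rw [coe_quadPlus] at hgood
  obtain ⟨d, hd⟩ := hgood
  have key := two_pomega (quadPlus m F) quadPlus_nondegenerate (quadPlus_isotropic (by omega)) hr hm
    (by rw [hcard]; omega) (by rw [hcard]) (b := b)
  rw [coe_quadPlus, hcard] at key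
  have h1 := key hb hb' split_plus hd _ (cyc_comap Φ hR)
  rwa [H851.Dg.nd_comap_equiv Φ.symm R, ← Nat.card_congr Φ.toEquiv] at h1

/-- the order of `q` modulo `u` -/
theorem prim_of_orderOf {q e u : ℕ} (hq : 1 ≤ q) (hu : u.Prime) (he : 1 ≤ e) (h : orderOf ((q : ℕ) : ZMod u) = e) :
    Prim q e u where
  prime := hu
  dvd_iff n := by
    rw [← h, orderOf_dvd_iff_pow_eq_one, ← Nat.cast_pow, ← ZMod.natCast_eq_zero_iff,
      Nat.cast_sub (Nat.one_le_pow _ _ hq), Nat.cast_one, sub_eq_zero]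
  not_dvd := by
    have : Fact u.Prime := ⟨hu⟩
    intro h1
    rw [(ZMod.natCast_eq_zero_iff q u).2 h1] at h
    have h2 : (0 : ZMod u) ^ e = 1 := by rw [← h]; exact pow_orderOf_eq_one _
    rw [zero_pow (by omega)] at h2
    exact zero_ne_one h2

/-- **The row.** -/
theorem two_row : ∃ c : ℝ, 0 < c ∧ ∀ (gT : Grp) (T : Type) [Group T] [Finite T] (_ : IsNamed gT T)
    (_ : 5 ≤ H278.El.AltNum.dimOf gT) (u : ℕ) (_ : H851.Dg.TwoU gT u) (R : Subgroup T) (_ : H851.Dg.CycP u R),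
    c * (Nat.card T : ℝ) ≤ H278.El.AltNum.dimOf gT * H851.Dg.nd R := by
  refine ⟨3 / 20, by norm_num, ?_⟩
  intro gT T _ _ hT h5 u hu R hR
  have hcyc : Cyc u R := hR
  have key : ∀ N : ℕ, 3 * Nat.card T ≤ 20 * N * H851.Dg.nd R →
      (3 / 20 : ℝ) * (Nat.card T : ℝ) ≤ (N : ℝ) * H851.Dg.nd R := by
    intro N hN
    have h1 : (3 : ℝ) * (Nat.card T : ℝ) ≤ 20 * N * H851.Dg.nd R := by exact_mod_cast hN
    linarith
  cases gT with
  | psp m q =>
    obtain ⟨hu1, hu2, hu3⟩ := hu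
    change 5 ≤ 2 * m at h5
    rw [Nat.even_iff] at hu2
    obtain ⟨F, _, _, hF, -⟩ := hT.real
    have hq : 2 ≤ q := by rw [← hF]; exact Fintype.one_lt_card
    exact key (2 * m) (named_psp hT (prim_of_orderOf (by omega) hu1 (by omega) hu3) (by omega) hu2 R hcyc)
  | oodd m q =>
    obtain ⟨hu1, hu2, hu3⟩ := hu
    have h3 : 3 ≤ m := hT.cond.1
    rw [Nat.even_iff] at hu2
    obtain ⟨F, _, _, hF, -⟩ := hT.real
    have hq : 2 ≤ q := by rw [← hF]; exact Fintype.one_lt_card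
    exact key (2 * m + 1) (named_oodd hT (prim_of_orderOf (by omega) hu1 (by omega) hu3) (by omega) hu2 R hcyc)
  | oplus m q =>
    obtain ⟨hu1, hu2, hu3⟩ := hu
    have h3 : 4 ≤ m := hT.cond.1
    rw [Nat.even_iff] at hu2
    obtain ⟨F, _, _, hF, -⟩ := hT.real
    have hq : 2 ≤ q := by rw [← hF]; exact Fintype.one_lt_card
    exact key (2 * m) (named_oplus hT (prim_of_orderOf (by omega) hu1 (by omega) hu3) (by omega) hu2 R hcyc)
  | _ => exact hu.elim

end Cfsg.Agent.H951.Two
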