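import Cfsg.Agent.H951.Two.TypeOne
import Cfsg.Agent.H264.FKS.TwoCl
import Cfsg.Agent.H851.Dg.Big

/-!
# From the two types of elements to `nd` (helper951, S5734)

`assemble`: `T = X / Z`, `X` a linear group over `F`, `Z` scalar, `R ≤ T` with cyclic Sylow `u`-subgroups: the
elements with a power of order `u` of one of the two types have no conjugate in `R`.
-/

set_option autoImplicit false

namespace Cfsg.Agent.H951.Two

open Module Subgroup Cfsg.Agent.H200.LinFix Cfsg.Agent.H264.FKS Cfsg.Agent.H436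

section

variable {F : Type*} [Field F] [Finite F] {ι : Type*} [Fintype ι] [DecidableEq ι] {X T : Type*} [Group X] [Finite X]
  [Group T]

/-- two elements of order `r` of the preimage of a group with cyclic Sylow `r`-subgroups have fixed spaces of the same
dimension -/
theorem finrank_K_eq (σ : X →* Matrix.GeneralLinearGroup ι F) (hσ : Function.Injective σ) (π : X →* T)
    (hπ : Function.Surjective π) (hker : ∀ k : X, π k = 1 → ∃ a : F, (σ k : Matrix ι ι F) = a • 1) {r e : ℕ}
    (hr : Prim (Nat.card F) e r) (he : 2 ≤ e) {y₁ y₂ : X} (h1 : orderOf y₁ = r) (h2 : orderOf y₂ = r)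
    (R : Subgroup T) (hR : Cyc r R) (hy₁ : π y₁ ∈ R) (hy₂ : π y₂ ∈ R) :
    finrank F (K (lin σ y₁)) = finrank F (K (lin σ y₂)) := by
  have : Fact r.Prime := ⟨hr.prime⟩
  have : Finite T := Finite.of_surjective π hπ
  -- kernel elements of order dividing `r`
  have hk1 : ∀ k : X, π k = 1 → k ^ r = 1 → k = 1 := fun k hk hkr => by
    obtain ⟨a, ha⟩ := hker k hk
    apply hσ
    apply Units.ext
    rw [map_one, ha]
    rcases isEmpty_or_nonempty ι with hι | ⟨⟨i⟩⟩
    · ext i; exact (hι.false i).elim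
    · have h3 : (a • (1 : Matrix ι ι F)) ^ r = 1 := by
        rw [← ha, ← Units.val_pow_eq_pow_val, ← map_pow, hkr, map_one, Units.val_one]
      rw [smul_pow, one_pow] at h3
      have h4 := congrFun (congrFun h3 i) i
      rw [Matrix.smul_apply, Matrix.one_apply_eq, smul_eq_mul, mul_one] at h4
      rw [scalar_eq_one hr he h4, one_smul, Units.val_one]
  have hord : ∀ {y : X}, orderOf y = r → orderOf (π y) = r := fun {y} hy => by
    refine orderOf_eq_prime ?_ ?_
    · rw [← map_pow, ← hy, pow_orderOf_eq_one, map_one]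
    · intro h
      have := hk1 y h (by rw [← hy]; exact pow_orderOf_eq_one y)
      rw [this, orderOf_one] at hy
      exact hr.prime.one_lt.ne hy
  obtain ⟨c, j, hc⟩ := hR.exists_conj (a := (⟨π y₁, hy₁⟩ : R)) (b := (⟨π y₂, hy₂⟩ : R))
    (by rw [Subgroup.orderOf_mk, hord h1]) (by rw [Subgroup.orderOf_mk, hord h2])
  have hc' : π y₂ = (c : T) * (π y₁) ^ j * (c : T)⁻¹ := congrArg Subtype.val hc
  obtain ⟨h, hh⟩ := hπ (c : T)
  have h3 : π y₂ = π (h * y₁ ^ j * h⁻¹) := by
    rw [map_mul, map_mul, map_inv, map_zpow, hh]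
    exact hc'
  -- the difference is a scalar
  set y := h * y₁ ^ j * h⁻¹ with hy
  have h4 : π (y₂ * y⁻¹) = 1 := by rw [map_mul, map_inv, ← h3, mul_inv_cancel]
  have hyr : y ^ r = 1 := by
    rw [hy, conj_pow, ← zpow_natCast, ← zpow_mul, mul_comm, zpow_mul, zpow_natCast, ← h1, pow_orderOf_eq_one, one_zpow,
      mul_one, mul_inv_cancel]
  have h5 : y₂ * y⁻¹ = 1 := by
    refine hk1 _ h4 ?_
    obtain ⟨a, ha⟩ := hker _ h4
    have hcomm : Commute (y₂ * y⁻¹) y := by
      have h6 : σ (y₂ * y⁻¹) * σ y = σ y * σ (y₂ * y⁻¹) := by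
        apply Units.ext
        rw [Units.val_mul, Units.val_mul, ha, smul_mul_assoc, one_mul, mul_smul_comm, mul_one]
      rw [← map_mul, ← map_mul] at h6
      exact hσ h6
    have h7 : (y₂ * y⁻¹ * y) ^ r = 1 := by
      rw [inv_mul_cancel_right, ← h2, pow_orderOf_eq_one]
    rw [hcomm.mul_pow, hyr, mul_one] at h7
    exact h7
  have h6 : y₂ = y := mul_inv_eq_one.1 h5
  rw [h6, hy, finrank_K_conj]
  have h7 : orderOf (y₁ ^ j) = r := by
    have h8 : orderOf y = r := by rw [← h6, h2]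
    rw [← h8, hy]
    exact (orderOf_injective (MulAut.conj h).toMonoidHom (MulAut.conj h).injective (y₁ ^ j)).symm
  have h8 : y₁ ∈ Subgroup.zpowers (y₁ ^ j) := by
    have h9 : Subgroup.zpowers (y₁ ^ j) = Subgroup.zpowers y₁ :=
      Subgroup.eq_of_le_of_card_ge (by rw [Subgroup.zpowers_le]; exact ⟨j, rfl⟩)
        (by rw [Nat.card_zpowers, Nat.card_zpowers, h7, h1])
    rw [h9]
    exact Subgroup.mem_zpowers y₁
  obtain ⟨i, hi⟩ := h8
  apply le_antisymm
  · exact Submodule.finrank_mono (K_zpow_le (lin σ) y₁ j)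
  · have h9 : K (lin σ (y₁ ^ j)) ≤ K (lin σ y₁) := by
      have h10 := K_zpow_le (lin σ) (y₁ ^ j) i
      rwa [show (y₁ ^ j) ^ i = y₁ from hi] at h10
    exact Submodule.finrank_mono h9

/-- the same for the commutator spaces -/
theorem finrank_R_eq (σ : X →* Matrix.GeneralLinearGroup ι F) (hσ : Function.Injective σ) (π : X →* T)
    (hπ : Function.Surjective π) (hker : ∀ k : X, π k = 1 → ∃ a : F, (σ k : Matrix ι ι F) = a • 1) {r e : ℕ}
    (hr : Prim (Nat.card F) e r) (he : 2 ≤ e) {y₁ y₂ : X} (h1 : orderOf y₁ = r) (h2 : orderOf y₂ = r)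
    (R' : Subgroup T) (hR : Cyc r R') (hy₁ : π y₁ ∈ R') (hy₂ : π y₂ ∈ R') :
    finrank F (R (lin σ y₁)) = finrank F (R (lin σ y₂)) := by
  have h3 := finrank_K_eq σ hσ π hπ hker hr he h1 h2 R' hR hy₁ hy₂
  have h4 := finrank_add (F := F) (lin σ y₁)
  have h5 := finrank_add (F := F) (lin σ y₂)
  omega

omit [Finite X] in
theorem card_preimage (π : X →* T) [Finite X] (hπ : Function.Surjective π) (P : T → Prop) :
    Nat.card {y : X // P (π y)} ≤ Nat.card π.ker * Nat.card {t : T // P t} := by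
  have : Finite T := Finite.of_surjective π hπ
  rw [← Nat.card_prod]
  refine Nat.card_le_card_of_injective (fun y : {y : X // P (π y)} =>
    ((⟨y.1 * (Function.surjInv hπ (π y.1))⁻¹, ?_⟩ : π.ker), (⟨π y.1, y.2⟩ : {t : T // P t}))) ?_
  · rw [MonoidHom.mem_ker, map_mul, map_inv, Function.surjInv_eq hπ, mul_inv_cancel]
  · intro a b hab
    rw [Prod.mk.injEq] at hab
    have h1 : π a.1 = π b.1 := congrArg Subtype.val hab.2
    have h2 : a.1 * (Function.surjInv hπ (π a.1))⁻¹ = b.1 * (Function.surjInv hπ (π b.1))⁻¹ :=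
      congrArg Subtype.val hab.1
    rw [h1] at h2
    exact Subtype.ext (mul_right_cancel h2)

/-- **Assembly.** -/
theorem assemble (σ : X →* Matrix.GeneralLinearGroup ι F) (hσ : Function.Injective σ) (π : X →* T)
    (hπ : Function.Surjective π) (hker : ∀ k : X, π k = 1 → ∃ a : F, (σ k : Matrix ι ι F) = a • 1) {r e : ℕ}
    (hr : Prim (Nat.card F) e r) (he : 2 ≤ e) {A : ℕ}
    (h1 : 3 * Nat.card X ≤ A * Nat.card {y : X // HasType (lin σ) r e y})
    (h2 : 3 * Nat.card X ≤ A * Nat.card {y : X // HasType (lin σ) r (2 * e) y})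
    (R' : Subgroup T) (hR : Cyc r R') : 3 * Nat.card T ≤ A * H851.Dg.nd R' := by
  have : Fact r.Prime := ⟨hr.prime⟩
  have : Finite T := Finite.of_surjective π hπ
  have hcard : Nat.card π.ker * Nat.card T = Nat.card X := by
    rw [← Nat.card_congr (QuotientGroup.quotientKerEquivOfSurjective π hπ).toEquiv]
    exact π.ker.card_mul_index
  -- the bound from a type without conjugates in `R'`
  have key : ∀ n, 3 * Nat.card X ≤ A * Nat.card {y : X // HasType (lin σ) r n y} →
      (∀ y : X, HasType (lin σ) r n y → ∀ g : T, g * π y * g⁻¹ ∉ R') → 3 * Nat.card T ≤ A * H851.Dg.nd R' := by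
    intro n hn hy
    have h3 : Nat.card {y : X // HasType (lin σ) r n y} ≤ Nat.card π.ker * H851.Dg.nd R' := by
      refine le_trans ?_ (card_preimage π hπ fun t => ∀ g : T, g * t * g⁻¹ ∉ R')
      exact Nat.card_le_card_of_injective (fun y : {y : X // HasType (lin σ) r n y} =>
        (⟨y.1, hy y.1 y.2⟩ : {y : X // ∀ g : T, g * π y * g⁻¹ ∉ R'})) fun a b hab =>
          Subtype.ext (Subtype.mk.inj hab)
    have h4 : Nat.card π.ker * (3 * Nat.card T) ≤ Nat.card π.ker * (A * H851.Dg.nd R') := by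
      calc Nat.card π.ker * (3 * Nat.card T) = 3 * Nat.card X := by rw [← hcard]; ring
        _ ≤ A * Nat.card {y : X // HasType (lin σ) r n y} := hn
        _ ≤ A * (Nat.card π.ker * H851.Dg.nd R') := Nat.mul_le_mul_left _ h3
        _ = Nat.card π.ker * (A * H851.Dg.nd R') := by ring
    exact Nat.le_of_mul_le_mul_left h4 Nat.card_pos
  by_cases hA : ∃ y : X, HasType (lin σ) r e y ∧ ∃ g : T, g * π y * g⁻¹ ∈ R'
  · obtain ⟨y₁, hy₁, g₁, hg₁⟩ := hA
    refine key (2 * e) h2 fun y₂ hy₂ g₂ hg₂ => ?_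
    -- powers of order `r`
    have hpow : ∀ {n : ℕ} {y : X} {g : T}, HasType (lin σ) r n y → g * π y * g⁻¹ ∈ R' →
        ∃ z : X, orderOf z = r ∧ π z ∈ R' ∧ finrank F (R (lin σ z)) = n := by
      intro n y g hy hg
      obtain ⟨h, rfl⟩ := hπ g
      refine ⟨h * y ^ (orderOf y / r) * h⁻¹, ?_, ?_, ?_⟩
      · rw [show orderOf (h * y ^ (orderOf y / r) * h⁻¹) = orderOf (y ^ (orderOf y / r)) from
          orderOf_injective (MulAut.conj h).toMonoidHom (MulAut.conj h).injective _]
        obtain ⟨k, hk⟩ := hy.1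
        have hk0 : 0 < k := by
          rcases Nat.eq_zero_or_pos k with h0 | h0
          · rw [h0, mul_zero] at hk
            exact absurd hk (orderOf_pos y).ne'
          · exact h0
        rw [hk, Nat.mul_div_cancel_left _ hr.prime.pos, orderOf_pow, hk, Nat.gcd_mul_left_left,
          Nat.mul_div_cancel _ hk0]
      · have h3 : π (h * y ^ (orderOf y / r) * h⁻¹) = (π h * π y * (π h)⁻¹) ^ (orderOf y / r) := by
          rw [map_mul, map_mul, map_pow, map_inv, conj_pow]
        rw [h3]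
        exact R'.pow_mem hg _
      · rw [finrank_R_conj]
        exact hy.2
    obtain ⟨z₁, hz₁, hzR₁, hf₁⟩ := hpow hy₁ hg₁
    obtain ⟨z₂, hz₂, hzR₂, hf₂⟩ := hpow hy₂ hg₂
    have h3 := finrank_R_eq σ hσ π hπ hker hr he hz₁ hz₂ R' hR hzR₁ hzR₂
    omega
  · push Not at hA
    exact key e h1 hA

end

end Cfsg.Agent.H951.Two
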