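import Mathlib

/-!
# Double counting of conjugates (helper951, S5734)
-/

set_option autoImplicit false
set_option linter.unusedSectionVars false

namespace Cfsg.Agent.H951.Two

open Subgroup

section

variable {X : Type*} [Group X] [Finite X]

/-- the size of a conjugacy class -/
theorem card_class (s : X) : Nat.card {x : X // IsConj s x} * Nat.card (centralizer ({s} : Set X)) = Nat.card X := by
  have h1 : Nat.card {x : X // IsConj s x} = (centralizer ({s} : Set X)).index := by
    refine (Nat.card_congr (Equiv.ofBijective (fun q : X ⧸ centralizer ({s} : Set X) =>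
      (Quotient.liftOn' q (fun h : X => (⟨h * s * h⁻¹, isConj_iff.2 ⟨h, rfl⟩⟩ : {x : X // IsConj s x})) ?_)) ?_)).symm
    · intro a b hab
      rw [QuotientGroup.leftRel_apply, mem_centralizer_singleton_iff] at hab
      apply Subtype.ext
      change a * s * a⁻¹ = b * s * b⁻¹
      calc a * s * a⁻¹ = a * (s * (a⁻¹ * b)) * b⁻¹ := by group
        _ = a * ((a⁻¹ * b) * s) * b⁻¹ := by rw [hab]
        _ = b * s * b⁻¹ := by group
    · constructor
      · intro q q'
        induction q using Quotient.inductionOn' with | h a => ?_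
        induction q' using Quotient.inductionOn' with | h b => ?_
        intro hab
        have h2 : a * s * a⁻¹ = b * s * b⁻¹ := congrArg Subtype.val hab
        apply Quotient.sound'
        rw [QuotientGroup.leftRel_apply, mem_centralizer_singleton_iff]
        calc a⁻¹ * b * s = a⁻¹ * (b * s * b⁻¹) * b := by group
          _ = a⁻¹ * (a * s * a⁻¹) * b := by rw [h2]
          _ = s * (a⁻¹ * b) := by group
      · rintro ⟨x, hx⟩
        obtain ⟨h, hh⟩ := isConj_iff.1 hx
        refine ⟨QuotientGroup.mk h, Subtype.ext ?_⟩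
        exact hh
  rw [h1, mul_comm]
  exact card_mul_index _

/-- **Double counting**: pairs `(x, y)`, `x` conjugate to `s`. -/
theorem double_count (P : X → X → Prop) (hP : ∀ h x y, P x y → P (h * x * h⁻¹) (h * y * h⁻¹)) (Q : X → Prop) (s : X)
    {M : ℕ} (hQ : ∀ x y, IsConj s x → P x y → Q y) (hM : ∀ y, Q y → Nat.card {x : X // IsConj s x ∧ P x y} ≤ M) :
    Nat.card X * Nat.card {y : X // P s y} ≤
      Nat.card (centralizer ({s} : Set X)) * (M * Nat.card {y : X // Q y}) := by
  classical
  have := Fintype.ofFinite X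
  have h1 : ∀ x : {x : X // IsConj s x}, Nat.card {y : X // P x y} = Nat.card {y : X // P s y} := by
    rintro ⟨x, hx⟩
    obtain ⟨h, rfl⟩ := isConj_iff.1 hx
    refine Nat.card_congr ((MulAut.conj h).toEquiv.subtypeEquiv fun y => ?_).symm
    constructor
    · intro h2
      exact hP h s y h2
    · intro h2
      have h3 := hP h⁻¹ _ _ h2
      have h4 : h⁻¹ * (h * s * h⁻¹) * h⁻¹⁻¹ = s := by group
      have h5 : h⁻¹ * ((MulAut.conj h).toEquiv y) * h⁻¹⁻¹ = y := by
        change h⁻¹ * (h * y * h⁻¹) * h⁻¹⁻¹ = y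
        group
      rwa [h4, h5] at h3
  have h2 : Nat.card (Σ x : {x : X // IsConj s x}, {y : X // P x y}) =
      Nat.card {x : X // IsConj s x} * Nat.card {y : X // P s y} := by
    rw [Nat.card_sigma, Finset.sum_congr rfl (fun x _ => h1 x), Finset.sum_const, Finset.card_univ, smul_eq_mul,
      Nat.card_eq_fintype_card (α := {x : X // IsConj s x})]
  have h3 : Nat.card (Σ x : {x : X // IsConj s x}, {y : X // P x y}) =
      Nat.card (Σ y : {y : X // Q y}, {x : X // IsConj s x ∧ P x y}) := by
    refine Nat.card_congr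
      { toFun := fun a => ⟨⟨a.2.1, hQ _ _ a.1.2 a.2.2⟩, ⟨a.1.1, a.1.2, a.2.2⟩⟩
        invFun := fun a => ⟨⟨a.2.1, a.2.2.1⟩, ⟨a.1.1, a.2.2.2⟩⟩
        left_inv := fun _ => rfl
        right_inv := fun _ => rfl }
  have h4 : Nat.card (Σ y : {y : X // Q y}, {x : X // IsConj s x ∧ P x y}) ≤ M * Nat.card {y : X // Q y} := by
    rw [Nat.card_sigma]
    refine (Finset.sum_le_sum fun y _ => hM y.1 y.2).trans ?_
    rw [Finset.sum_const, Finset.card_univ, smul_eq_mul, mul_comm, Nat.card_eq_fintype_card (α := {y : X // Q y})]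
  rw [← h3, h2] at h4
  calc Nat.card X * Nat.card {y : X // P s y} =
        Nat.card (centralizer ({s} : Set X)) * (Nat.card {x : X // IsConj s x} * Nat.card {y : X // P s y}) := by
        rw [← card_class s]; ring
    _ ≤ _ := Nat.mul_le_mul_left _ h4

/-- **Double counting**: conjugates of the elements of a set with centralisers of the same order. -/
theorem double_count' (E : X → Prop) {c M : ℕ} (hc : ∀ x, E x → Nat.card (centralizer ({x} : Set X)) = c) (Q : X → Prop)
    (hQ : ∀ x y, E x → IsConj x y → Q y) (hM : ∀ y, Q y → Nat.card {x : X // E x ∧ IsConj x y} ≤ M) :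
    Nat.card X * Nat.card {x : X // E x} ≤ c * (M * Nat.card {y : X // Q y}) := by
  classical
  have := Fintype.ofFinite X
  have h3 : Nat.card (Σ x : {x : X // E x}, {y : X // IsConj x.1 y}) =
      Nat.card (Σ y : {y : X // Q y}, {x : X // E x ∧ IsConj x y}) := by
    refine Nat.card_congr
      { toFun := fun a => ⟨⟨a.2.1, hQ _ _ a.1.2 a.2.2⟩, ⟨a.1.1, a.1.2, a.2.2⟩⟩
        invFun := fun a => ⟨⟨a.2.1, a.2.2.1⟩, ⟨a.1.1, a.2.2.2⟩⟩
        left_inv := fun _ => rfl
        right_inv := fun _ => rfl }
  have h4 : Nat.card (Σ y : {y : X // Q y}, {x : X // E x ∧ IsConj x y}) ≤ M * Nat.card {y : X // Q y} := by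
    rw [Nat.card_sigma]
    refine (Finset.sum_le_sum fun y _ => hM y.1 y.2).trans ?_
    rw [Finset.sum_const, Finset.card_univ, smul_eq_mul, mul_comm, Nat.card_eq_fintype_card (α := {y : X // Q y})]
  rw [← h3] at h4
  have h5 : Nat.card X * Nat.card {x : X // E x} = c * Nat.card (Σ x : {x : X // E x}, {y : X // IsConj x.1 y}) := by
    rw [Nat.card_sigma, Finset.mul_sum]
    have h6 : ∀ x : {x : X // E x}, c * Nat.card {y : X // IsConj x.1 y} = Nat.card X := by
      intro x
      rw [← hc x.1 x.2, mul_comm]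
      exact card_class x.1
    rw [Finset.sum_congr rfl (fun x _ => h6 x), Finset.sum_const, Finset.card_univ, smul_eq_mul, mul_comm,
      Nat.card_eq_fintype_card (α := {x : X // E x})]
  rw [h5]
  exact Nat.mul_le_mul_left _ h4

end

end Cfsg.Agent.H951.Two
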