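import Cfsg.Agent.H951.Two.TypeTwo
import Cfsg.Agent.H951.Two.Asm
import Cfsg.Agent.H93.PReg.Singer
import Cfsg.Agent.H934.IdxCl

/-!
# The general bound for the groups with two types of elements of order `u` (helper951, S5734)

* `exists_type_one`: elements of order `u` whose commutator space has dimension `e`;
* `two_of`: the bound for `nd R`;
* `exists_singer`, `exists_good`: the elements used for the second type.
-/

set_option autoImplicit false

namespace Cfsg.Agent.H951.Two

open Module Subgroup Cfsg.Agent.H200.LinFix Cfsg.Agent.H264.FKS Cfsg.Agent.H436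

section

variable {F : Type*} [Field F] [Finite F] {ι : Type*} [Fintype ι] [DecidableEq ι] {X T : Type*} [Group X] [Finite X]
  [Group T]

/-- elements of order `r` of the first type -/
theorem exists_type_one (σ : X →* Matrix.GeneralLinearGroup ι F) (hσ : Function.Injective σ) {r e b : ℕ}
    (hr : Prim (Nat.card F) e r) (he : 2 ≤ e) (hdim : Fintype.card ι ≤ 2 * e + 1)
    (hb : r ^ b ∣ Nat.card X) (hb' : ¬ r ^ b ∣ Nat.card F ^ (2 * e) - 1) :
    ∃ s : X, orderOf s = r ∧ finrank F (R (lin σ s)) = e := by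
  have : Fact r.Prime := ⟨hr.prime⟩
  obtain ⟨y₁, y₂, h1, h2, hne⟩ := Two.exists_two (lin σ) (lin_injective hσ) (ordd_of_prim hr) (cast_ne_zero' hr)
    (by rw [Module.finrank_fintype_fun_eq_card]; omega) hb hb'
  have key : ∀ y : X, orderOf y = r → finrank F (R (lin σ y)) = e ∨ finrank F (R (lin σ y)) = 2 * e := by
    intro y hy
    have h3 : lin σ y ^ r = 1 := by rw [← map_pow, ← hy, pow_orderOf_eq_one, map_one]
    have h4 : lin σ y ≠ 1 := fun h => by
      have : y = 1 := lin_injective hσ (h.trans (map_one _).symm)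
      rw [this, orderOf_one] at hy
      exact hr.prime.one_lt.ne hy
    obtain ⟨c, hc⟩ := dvd_finrank_R (ordd_of_prim hr) (cast_ne_zero' hr) h3
    have h5 : finrank F (R (lin σ y)) ≤ finrank F (ι → F) := Submodule.finrank_le _
    rw [Module.finrank_fintype_fun_eq_card, hc] at h5
    have hc0 : c ≠ 0 := by
      rintro rfl
      rw [mul_zero, Submodule.finrank_eq_zero] at hc
      exact R_ne_bot h4 hc
    have hc3 : c < 3 := by
      by_contra h
      have h2 : e * 3 ≤ e * c := Nat.mul_le_mul_left _ (by omega)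
      omega
    rcases (show c = 1 ∨ c = 2 by omega) with rfl | rfl
    · left; omega
    · right; omega
  have h4 := finrank_add (F := F) (lin σ y₁)
  have h5 := finrank_add (F := F) (lin σ y₂)
  rcases key y₁ h1 with h | h
  · exact ⟨y₁, h1, h⟩
  · rcases key y₂ h2 with h' | h'
    · exact ⟨y₂, h2, h'⟩
    · exact absurd (by omega) hne

/-- **The bound.** -/
theorem two_of (σ : X →* Matrix.GeneralLinearGroup ι F) (hσ : Function.Injective σ) (π : X →* T)
    (hπ : Function.Surjective π) (hker : ∀ k : X, π k = 1 → ∃ a : F, (σ k : Matrix ι ι F) = a • 1) {p r e b : ℕ}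
    [Fact p.Prime] [CharP F p]
    (hr : Prim (Nat.card F) e r) (he : 2 ≤ e) (h5 : 5 ≤ r) (hdim : Fintype.card ι ≤ 2 * e + 1)
    (hb : r ^ b ∣ Nat.card X) (hb' : ¬ r ^ b ∣ Nat.card F ^ (2 * e) - 1)
    (B : LinearMap.BilinForm F (ι → F)) (hinv : ∀ h v w, B (lin σ h v) (lin σ h w) = B v w)
    (hps : ∀ s : X, orderOf s = r → finrank F (R (lin σ s)) = e → p ∣ Nat.card (centralizer ({s} : Set X)))
    {W₁ W₂ V₀ : Submodule F (ι → F)} (hS : Split B W₁ W₂ V₀ e) {d : X}
    (hd : Good (lin σ) W₁ W₂ V₀ r (Nat.card F ^ (e / 2) + 1) d)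
    (R' : Subgroup T) (hR : Cyc r R') : 3 * Nat.card T ≤ 20 * Fintype.card ι * H851.Dg.nd R' := by
  have : Fact r.Prime := ⟨hr.prime⟩
  obtain ⟨s, hs, hse⟩ := exists_type_one σ hσ hr he hdim hb hb'
  have h1 := type_one (lin σ) (p := p) (ordd_of_prim hr) he h5 (cast_ne_zero' hr) (lin_injective hσ)
    (by rw [Module.finrank_fintype_fun_eq_card]; exact hdim) B hS.nd2 hinv hs hse (hps s hs hse)
  have h2 := type_two hinv (lin_injective hσ) (ordd_of_prim hr) he h5 (cast_ne_zero' hr)
    (by rw [Module.finrank_fintype_fun_eq_card]; exact hdim) hS hd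
  rw [Module.finrank_fintype_fun_eq_card] at h1 h2
  refine assemble σ hσ π hπ hker hr he ?_ (by rw [mul_assoc]; exact h2) R' hR
  rw [mul_assoc]
  omega

end

/-! ### Singer cycles -/

section

variable {F : Type} [Field F] [Fintype F]

open Matrix

theorem exists_singer (n : ℕ) (hn : n ≠ 0) :
    ∃ t : SpecialLinearGroup (Fin n) F, orderOf t = (Fintype.card F ^ n - 1) / (Fintype.card F - 1) := by
  have : NeZero n := ⟨hn⟩
  have : Nonempty (Fin n) := ⟨⟨0, by omega⟩⟩
  obtain ⟨K, _, _, b, _, g, hK, hg⟩ := H93.PReg.Singer.exists_ext F n hn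
  have hq : 2 ≤ Fintype.card F := Fintype.one_lt_card
  have hdet : (Algebra.leftMulMatrix b ((g : K) ^ (Fintype.card F - 1))).det = 1 := by
    rw [← Algebra.norm_eq_matrix_det, map_pow]
    apply FiniteField.pow_card_sub_one_eq_one
    rw [Ne, Algebra.norm_eq_zero_iff]
    exact g.ne_zero
  obtain ⟨t, ht⟩ : ∃ t : SpecialLinearGroup (Fin n) F,
      (t : Matrix (Fin n) (Fin n) F) = Algebra.leftMulMatrix b ((g : K) ^ (Fintype.card F - 1)) := ⟨⟨_, hdet⟩, rfl⟩
  refine ⟨t, ?_⟩
  have h1 : orderOf ((g : K) ^ (Fintype.card F - 1)) = (Fintype.card F ^ n - 1) / (Fintype.card F - 1) := by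
    rw [← Units.val_pow_eq_pow_val, orderOf_units, orderOf_pow_of_dvd (by omega) ?_, hg]
    rw [hg]
    simpa using Nat.sub_dvd_pow_sub_pow (Fintype.card F) 1 n
  rw [← h1]
  rw [orderOf_eq_orderOf_iff]
  intro k
  have h2 : ∀ t : SpecialLinearGroup (Fin n) F, t = 1 ↔ (t : Matrix (Fin n) (Fin n) F) = 1 := fun t =>
    ⟨fun h => by rw [h]; rfl, fun h => Subtype.ext h⟩
  have h3 : ((t ^ k : SpecialLinearGroup (Fin n) F) : Matrix (Fin n) (Fin n) F) =
      (t : Matrix (Fin n) (Fin n) F) ^ k := Matrix.SpecialLinearGroup.coe_pow t k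
  refine (h2 _).trans ?_
  rw [ht] at h3
  refine (Eq.congr_left (h3.trans (map_pow _ _ _).symm)).trans ?_
  constructor
  · intro h
    exact Algebra.leftMulMatrix_injective b (h.trans (map_one _).symm)
  · intro h
    rw [h, map_one]

/-- the element for the second type, in `SL_m` -/
theorem exists_singer' {m r : ℕ} (hm : 4 ≤ m) (he : m % 2 = 0) (hr : Prim (Nat.card F) m r) :
    ∃ t : SpecialLinearGroup (Fin m) F, r ∣ orderOf t ∧
      ∃ w : Fin m → F, ((t ^ (Nat.card F ^ (m / 2) + 1) : SpecialLinearGroup (Fin m) F) : Matrix (Fin m) (Fin m) F) *ᵥ w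
        ≠ w := by
  obtain ⟨t, ht⟩ := exists_singer (F := F) m (by omega)
  have hq : 2 ≤ Nat.card F := Finite.one_lt_card
  rw [← Nat.card_eq_fintype_card] at ht
  set q := Nat.card F with hqd
  have hmul : (q - 1) * orderOf t = q ^ m - 1 := by
    rw [ht]
    exact Nat.mul_div_cancel' (by simpa using Nat.sub_dvd_pow_sub_pow q 1 m)
  refine ⟨t, ?_, ?_⟩
  · have h1 : r ∣ (q - 1) * orderOf t := by
      rw [hmul]
      exact (hr.dvd_iff m).2 dvd_rfl
    rcases hr.prime.dvd_mul.1 h1 with h2 | h2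
    · exfalso
      rw [← pow_one q, hr.dvd_iff] at h2
      have := Nat.le_of_dvd one_pos h2
      omega
    · exact h2
  · by_contra hcon
    push Not at hcon
    have h1 : t ^ (q ^ (m / 2) + 1) = 1 := by
      apply Subtype.ext
      apply Matrix.mulVec_injective
      funext w
      rw [hcon w]
      exact (one_mulVec w).symm
    have h2 := orderOf_dvd_of_pow_eq_one h1
    have h3 := Nat.le_of_dvd (by omega) h2
    obtain ⟨k, hk⟩ : ∃ k, m = 2 * k := ⟨m / 2, by omega⟩
    rw [show m / 2 = k by omega] at h3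
    have h4 : q ^ m - 1 = (q ^ k - 1) * (q ^ k + 1) := by
      rw [hk, mul_comm 2 k, pow_mul]
      have := Nat.sq_sub_sq (q ^ k) 1
      rw [one_pow] at this
      rw [this, mul_comm]
    rw [h4] at hmul
    have h5 : (q ^ k - 1) * (q ^ k + 1) ≤ (q - 1) * (q ^ k + 1) := by
      rw [← hmul]
      exact Nat.mul_le_mul_left _ h3
    have h6 := Nat.le_of_mul_le_mul_right h5 (by omega)
    have h7 : q ^ 2 ≤ q ^ k := Nat.pow_le_pow_right (by omega) (by omega)
    have h8 : q * 2 ≤ q ^ 2 := by rw [sq]; exact Nat.mul_le_mul_left _ hq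
    omega

/-- the element for the second type -/
theorem exists_good {V : Type*} [AddCommGroup V] [Module F V] {X : Type*} [Group X] (ρ : X →* Module.End F V)
    {m r : ℕ} (hm : 4 ≤ m) (he : m % 2 = 0) (hr : Prim (Nat.card F) m r)
    (J : SpecialLinearGroup (Fin m) F →* X) (hJ : Function.Injective J) (L₁ : (Fin m → F) →ₗ[F] V)
    (hL₁ : Function.Injective L₁) (h1 : ∀ A x, ρ (J A) (L₁ x) = L₁ ((A : Matrix (Fin m) (Fin m) F) *ᵥ x)) {W₂ V₀ : Submodule F V}
    (h2 : ∀ A, Pres ρ W₂ (J A)) (h0 : ∀ A, Pres ρ V₀ (J A)) :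
    ∃ d : X, Good ρ (LinearMap.range L₁) W₂ V₀ r (Nat.card F ^ (m / 2) + 1) d := by
  obtain ⟨t, ht, w, hw⟩ := exists_singer' hm he hr
  refine ⟨J t, ?_, h2 t, h0 t, ?_, L₁ w, ⟨w, rfl⟩, ?_⟩
  · rintro _ ⟨x, rfl⟩
    rw [h1]
    exact ⟨_, rfl⟩
  · rw [orderOf_injective J hJ]
    exact ht
  · rw [← map_pow, h1]
    intro h
    exact hw (hL₁ h)

end

end Cfsg.Agent.H951.Two
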