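import Cfsg.Agent.H951.Two.Sp
import Cfsg.Agent.ClassicalGeometry.Eichler
import Cfsg.Agent.ClassicalGeometry.SiegelGen

/-!
# The bound for the orthogonal groups (helper951, S5734)
-/

set_option autoImplicit false
set_option linter.unusedSectionVars false

namespace Cfsg.Agent.H951.Two

open Cfsg Module Cfsg.Agent.H200.LinFix Cfsg.Agent.H264.FKS Cfsg.Agent.H436 Matrix Cfsg.Agent.OrdDiv
  Cfsg.Agent.H915.GN Cfsg.Agent.H264.GN QuadraticMap Cfsg.Agent.ClassicalGeometry.Eichler
  Cfsg.Agent.ClassicalGeometry.Reflection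
open scoped commutatorElement

section quad

variable {F V : Type*} [Field F] [AddCommGroup V] [Module F V] [FiniteDimensional F V]

theorem exists_ne_zero_of_two (h3 : 3 ≤ finrank F V) (f g : V →ₗ[F] F) : ∃ v, v ≠ 0 ∧ f v = 0 ∧ g v = 0 := by
  have h : LinearMap.ker (f.prod g) ≠ ⊥ := by
    apply LinearMap.ker_ne_bot_of_finrank_lt
    rw [Module.finrank_prod, Module.finrank_self]
    omega
  obtain ⟨v, hv, hv0⟩ := (Submodule.ne_bot_iff _).1 h
  have h1 : (f v, g v) = (0, 0) := LinearMap.mem_ker.1 hv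
  exact ⟨v, hv0, congrArg Prod.fst h1, congrArg Prod.snd h1⟩

/-- singular vectors, any characteristic -/
theorem exists_singular' [Finite F] (Q : QuadraticForm F V) (h3 : 3 ≤ finrank F V) : ∃ v : V, v ≠ 0 ∧ Q v = 0 := by
  by_cases h2 : (2 : F) = 0
  · have hnt : Nontrivial V := Module.nontrivial_of_finrank_pos (R := F) (by omega)
    obtain ⟨a, ha⟩ := exists_ne (0 : V)
    by_cases hQa : Q a = 0
    · exact ⟨a, ha, hQa⟩
    obtain ⟨f, hf⟩ : ∃ f : Module.Dual F V, f a ≠ 0 := by
      by_contra h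
      push Not at h
      exact ha ((Module.forall_dual_apply_eq_zero_iff F a).1 h)
    obtain ⟨b, hb, h4, h5⟩ := exists_ne_zero_of_two h3 f (polarBilin Q a)
    rw [polarBilin_apply_apply] at h5
    by_cases hQb : Q b = 0
    · exact ⟨b, hb, hQb⟩
    have hc2 : CharP F 2 := CharTwo.of_one_ne_zero_of_two_eq_zero one_ne_zero h2
    obtain ⟨t, ht⟩ := FiniteField.isSquare_of_char_two (ringChar.eq F 2) (Q a / Q b)
    refine ⟨a + t • b, ?_, ?_⟩
    · intro h
      apply hf
      have h6 := congrArg f h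
      rwa [map_add, map_smul, h4, smul_zero, add_zero, map_zero] at h6
    · rw [QuadraticMap.map_add Q, QuadraticMap.map_smul, QuadraticMap.polar_smul_right, h5, smul_zero, add_zero, ← ht,
        smul_eq_mul, div_mul_cancel₀ _ hQb, ← two_mul, h2, zero_mul]
  · exact ClassicalGeometry.SiegelGen.exists_singular h2 Q h3

/-- a singular vector and an orthogonal nonsingular vector -/
theorem exists_pair [Finite F] (Q : QuadraticForm F V) (h3 : 3 ≤ finrank F V)
    (hnd : ∀ v, (∀ w, polar Q v w = 0) → v = 0) : ∃ u a : V, u ≠ 0 ∧ Q u = 0 ∧ polar Q u a = 0 ∧ Q a ≠ 0 := by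
  obtain ⟨u, hu0, hu⟩ := exists_singular' Q h3
  by_contra hcon
  push Not at hcon
  have h1 : ∀ a, polar Q u a = 0 → Q a = 0 := fun a ha => hcon u a hu0 hu ha
  obtain ⟨v, hv⟩ : ∃ v, polar Q u v ≠ 0 := by
    by_contra h
    push Not at h
    exact hu0 (hnd u h)
  obtain ⟨a, ha0, ha1, ha2⟩ := exists_ne_zero_of_two h3 (polarBilin Q u) (polarBilin Q v)
  rw [polarBilin_apply_apply] at ha1 ha2
  apply ha0
  apply hnd
  intro w
  obtain ⟨c, hc⟩ : ∃ c : F, c * polar Q u v = polar Q u w := ⟨polar Q u w / polar Q u v, div_mul_cancel₀ _ hv⟩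
  have h2 : polar Q u (w - c • v) = 0 := by
    rw [QuadraticMap.polar_sub_right, QuadraticMap.polar_smul_right, smul_eq_mul, hc, sub_self]
  have h3 : polar Q a (w - c • v) = 0 := by
    have h4 := QuadraticMap.map_add Q a (w - c • v)
    rw [h1 a ha1, h1 _ h2, h1 (a + (w - c • v)) (by rw [QuadraticMap.polar_add_right, ha1, h2, add_zero]), zero_add,
      zero_add] at h4
    exact h4.symm
  rw [QuadraticMap.polar_sub_right, QuadraticMap.polar_smul_right, polar_comm Q a v, ha2, smul_zero, sub_zero] at h3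
  exact h3

end quad

section

variable {ι : Type} [Fintype ι] [DecidableEq ι] {F : Type} [Field F]

theorem eichler_pow (Q : QuadraticForm F (ι → F)) (u w : ι → F) (hu : Q u = 0) (huw : polar (⇑Q) u w = 0) (k : ℕ) :
    eichlerMatrix Q u w ^ k = eichlerMatrix Q u ((k : F) • w) := by
  induction k with
  | zero => rw [pow_zero, Nat.cast_zero, zero_smul, eichlerMatrix_zero]
  | succ k ih =>
    rw [pow_succ, ih, eichlerMatrix_mul Q u _ w hu (by rw [QuadraticMap.polar_smul_right, huw, smul_zero]) huw]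
    congr 1
    push_cast
    rw [add_smul, one_smul]

theorem eichler_ne_one (Q : QuadraticForm F (ι → F)) (hQ : (polarBilin Q).Nondegenerate) {u w : ι → F} (hu0 : u ≠ 0)
    (hu : Q u = 0) (hw : Q w ≠ 0) : eichlerMatrix Q u w ≠ 1 := by
  intro h
  obtain ⟨x, hx⟩ := ClassicalGeometry.SiegelGen.exists_polar_eq_one Q hQ u hu0
  have h1 := eichlerMatrix_mulVec Q u w x
  rw [h, one_mulVec, hx, one_smul, mul_one, left_eq_add, sub_sub, ← add_smul, sub_eq_zero] at h1
  apply hw
  rw [h1, QuadraticMap.map_smul, hu, smul_zero]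

/-- Eichler transformations in `Ω` -/
theorem exists_eichler (Q : QuadraticForm F (ι → F)) (hQ : (polarBilin Q).Nondegenerate) {u a : ι → F} (hu0 : u ≠ 0)
    (hu : Q u = 0) (hua : polar (⇑Q) u a = 0) (ha : Q a ≠ 0) :
    ∃ (c : F) (g : Omega F (⇑Q)), c ≠ 0 ∧
      (((g : isometryGroup F (⇑Q)) : Matrix.GeneralLinearGroup ι F) : Matrix ι ι F) = eichlerMatrix Q u (c • a) := by
  obtain ⟨w, hw1, hw2⟩ : ∃ w, polar (⇑Q) u w = 0 ∧ polar (⇑Q) a w ≠ 0 := by
    by_contra hcon
    push Not at hcon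
    obtain ⟨v, hv⟩ := ClassicalGeometry.SiegelGen.exists_polar_eq_one Q hQ u hu0
    have h1 : a - polar (⇑Q) a v • u = 0 := by
      apply hQ.1
      intro x
      rw [polarBilin_apply_apply]
      have h2 := hcon (x - polar (⇑Q) u x • v) (by
        rw [QuadraticMap.polar_sub_right, QuadraticMap.polar_smul_right, hv, smul_eq_mul, mul_one, sub_self])
      rw [QuadraticMap.polar_sub_right, QuadraticMap.polar_smul_right, smul_eq_mul] at h2
      rw [QuadraticMap.polar_sub_left, QuadraticMap.polar_smul_left, smul_eq_mul, mul_comm (polar (⇑Q) a v)]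
      exact h2
    apply ha
    rw [sub_eq_zero.1 h1, QuadraticMap.map_smul, hu, smul_zero]
  have hau : polar (⇑Q) a u = 0 := by rw [polar_comm]; exact hua
  have hru : reflectionMatrix (⇑Q) a *ᵥ u = u := reflectionMatrix_mulVec_of_polar_eq_zero Q a u hau
  have hrw : reflectionMatrix (⇑Q) a *ᵥ w = w - ((Q a)⁻¹ * polar (⇑Q) a w) • a := reflectionMatrix_mulVec Q a w
  have hurw : polar (⇑Q) u (reflectionMatrix (⇑Q) a *ᵥ w) = 0 := by
    rw [hrw, QuadraticMap.polar_sub_right, QuadraticMap.polar_smul_right, hw1, hua, smul_zero, sub_zero]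
  have hnw : polar (⇑Q) u (-w) = 0 := by rw [QuadraticMap.polar_neg_right, hw1, neg_zero]
  refine ⟨-((Q a)⁻¹ * polar (⇑Q) a w), ⟨⁅reflIso Q a ha, eichlerIso Q u w hu hw1⁆,
    Subgroup.commutator_mem_commutator (Subgroup.mem_top _) (Subgroup.mem_top _)⟩,
    neg_ne_zero.2 (mul_ne_zero (inv_ne_zero ha) hw2), ?_⟩
  have h1 : reflIso Q a ha * eichlerIso Q u w hu hw1 * (reflIso Q a ha)⁻¹ =
      eichlerIso Q u (reflectionMatrix (⇑Q) a *ᵥ w) hu hurw := by
    rw [conj_eichlerIso Q u w hu hw1 (reflIso Q a ha) (by rw [coe_reflIso, hru]; exact hu)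
      (by rw [coe_reflIso, hru]; exact hurw)]
    apply Subtype.ext
    apply Units.ext
    rw [coe_eichlerIso, coe_eichlerIso, coe_reflIso, hru]
  change (((⁅reflIso Q a ha, eichlerIso Q u w hu hw1⁆ : isometryGroup F (⇑Q)) : Matrix.GeneralLinearGroup ι F) :
    Matrix ι ι F) = _
  rw [commutatorElement_def, h1, eichlerIso_inv Q u w hu hw1, eichlerIso_mul Q u _ _ hu hurw hnw, coe_eichlerIso, hrw]
  congr 1
  rw [neg_smul]
  abel

/-- elements of order `p` commuting with an element fixing enough vectors -/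
theorem dvd_centralizer_orth [Fintype F] {p : ℕ} [hp : Fact p.Prime] [CharP F p] (Q : QuadraticForm F (ι → F))
    (hQ : (polarBilin Q).Nondegenerate) (s : Omega F (⇑Q)) {u a : ι → F} (hu0 : u ≠ 0)
    (hu : Q u = 0) (hua : polar (⇑Q) u a = 0) (ha : Q a ≠ 0)
    (hsu : (((s : isometryGroup F (⇑Q)) : Matrix.GeneralLinearGroup ι F) : Matrix ι ι F) *ᵥ u = u)
    (hsa : (((s : isometryGroup F (⇑Q)) : Matrix.GeneralLinearGroup ι F) : Matrix ι ι F) *ᵥ a = a) :
    p ∣ Nat.card (Subgroup.centralizer ({s} : Set (Omega F (⇑Q)))) := by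
  obtain ⟨c, g, hc, hg⟩ := exists_eichler Q hQ hu0 hu hua ha
  have hext : ∀ x y : Omega F (⇑Q),
      (((x : isometryGroup F (⇑Q)) : Matrix.GeneralLinearGroup ι F) : Matrix ι ι F) =
      (((y : isometryGroup F (⇑Q)) : Matrix.GeneralLinearGroup ι F) : Matrix ι ι F) → x = y := fun x y h =>
    Subtype.ext (Subtype.ext (Units.ext h))
  have huc : polar (⇑Q) u (c • a) = 0 := by rw [QuadraticMap.polar_smul_right, hua, smul_zero]
  have h1 : g ^ p = 1 := by
    apply hext
    change (((g : isometryGroup F (⇑Q)) : Matrix.GeneralLinearGroup ι F) : Matrix ι ι F) ^ p = 1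
    rw [hg, eichler_pow Q u _ hu huc, CharP.cast_eq_zero, zero_smul, eichlerMatrix_zero]
  have h2 : g ≠ 1 := by
    intro h
    rw [h] at hg
    refine eichler_ne_one Q hQ hu0 hu (w := c • a) ?_ hg.symm
    rw [QuadraticMap.map_smul, smul_eq_mul]
    exact mul_ne_zero (mul_ne_zero hc hc) ha
  have h3 : orderOf g = p := orderOf_eq_prime h1 h2
  have hs := (mem_isometryGroup_iff _ _).1 (s : isometryGroup F (⇑Q)).2
  have h4 : g ∈ Subgroup.centralizer ({s} : Set (Omega F (⇑Q))) := by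
    rw [Subgroup.mem_centralizer_singleton_iff]
    apply hext
    apply Matrix.mulVec_injective
    funext x
    change ((((g : isometryGroup F (⇑Q)) : Matrix.GeneralLinearGroup ι F) : Matrix ι ι F) *
      (((s : isometryGroup F (⇑Q)) : Matrix.GeneralLinearGroup ι F) : Matrix ι ι F)) *ᵥ x =
      ((((s : isometryGroup F (⇑Q)) : Matrix.GeneralLinearGroup ι F) : Matrix ι ι F) *
      (((g : isometryGroup F (⇑Q)) : Matrix.GeneralLinearGroup ι F) : Matrix ι ι F)) *ᵥ x
    have h5 := polar_mulVec_of_isometry Q _ hs u x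
    have h6 := polar_mulVec_of_isometry Q _ hs (c • a) x
    rw [mulVec_smul, hsa] at h6
    rw [hsu] at h5
    rw [← mulVec_mulVec, ← mulVec_mulVec, hg, eichlerMatrix_mulVec, eichlerMatrix_mulVec, mulVec_add, mulVec_sub,
      mulVec_sub, mulVec_smul, mulVec_smul, mulVec_smul, mulVec_smul, hsu, hsa, h5, h6]
  have h5 : orderOf (⟨_, h4⟩ : Subgroup.centralizer ({s} : Set (Omega F (⇑Q)))) = p := by
    rw [Subgroup.orderOf_mk, h3]
  rw [← h5]
  exact orderOf_dvd_natCard _

/-- the linear representation of `Ω` -/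
def toGLOm (Q : (ι → F) → F) : Omega F Q →* Matrix.GeneralLinearGroup ι F :=
  (isometryGroup F Q).subtype.comp (Omega F Q).subtype

theorem toGLOm_injective (Q : (ι → F) → F) : Function.Injective (toGLOm Q) :=
  (Subgroup.subtype_injective _).comp (Subgroup.subtype_injective _)

theorem lin_toGLOm (Q : (ι → F) → F) [Finite F] (s : Omega F Q) (v : ι → F) : lin (toGLOm Q) s v =
    (((s : isometryGroup F Q) : Matrix.GeneralLinearGroup ι F) : Matrix ι ι F) *ᵥ v := rfl

/-- **The orthogonal groups.** -/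
theorem two_pomega [Fintype F] (Q : QuadraticForm F (ι → F)) (hQ : (polarBilin Q).Nondegenerate)
    (hs : ∃ u : ι → F, u ≠ 0 ∧ Q u = 0) {m r b : ℕ} (hr : Prim (Nat.card F) m r) (hm : 4 ≤ m)
    (hdim : Fintype.card ι ≤ 2 * m + 1) (hdim' : 2 * m ≤ Fintype.card ι)
    (hb : r ^ b ∣ Nat.card (POmega F (⇑Q))) (hb' : ¬ r ^ b ∣ Nat.card F ^ (2 * m) - 1)
    {W₁ W₂ V₀ : Submodule F (ι → F)} (hS : Split (polarBilin Q) W₁ W₂ V₀ m) {d : Omega F (⇑Q)}
    (hd : Good (lin (toGLOm ⇑Q)) W₁ W₂ V₀ r (Nat.card F ^ (m / 2) + 1) d)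
    (R' : Subgroup (POmega F (⇑Q))) (hR : Cyc r R') :
    3 * Nat.card (POmega F (⇑Q)) ≤ 20 * Fintype.card ι * H851.Dg.nd R' := by
  obtain ⟨p, hp⟩ := CharP.exists F
  have : Fact p.Prime := ⟨CharP.char_is_prime F p⟩
  have hlt := lt_of_prim hr
  have hinv : ∀ (h : Omega F (⇑Q)) (v w : ι → F), polarBilin Q (lin (toGLOm ⇑Q) h v) (lin (toGLOm ⇑Q) h w) =
      polarBilin Q v w := by
    intro h v w
    rw [lin_toGLOm, lin_toGLOm, polarBilin_apply_apply, polarBilin_apply_apply]
    exact polar_mulVec_of_isometry Q _ ((mem_isometryGroup_iff _ _).1 (h : isometryGroup F (⇑Q)).2) v w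
  refine two_of (p := p) (toGLOm ⇑Q) (toGLOm_injective _) (QuotientGroup.mk' (Subgroup.center (Omega F (⇑Q))))
    (QuotientGroup.mk'_surjective _) (fun k hk => ?_) hr (by omega) (by omega) hdim
    (hb.trans (Subgroup.card_quotient_dvd_card _)) hb' (polarBilin Q) hinv (fun s hs hse => ?_) hS hd R' hR
  · have h1 := (QuotientGroup.eq_one_iff k).1 hk
    rcases (LieClassical.OmegaCenter.mem_center_omega_iff Q hQ (by omega) hs k).1 h1 with h2 | h2
    · exact ⟨1, by rw [one_smul]; exact h2⟩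
    · exact ⟨-1, by rw [neg_one_smul]; exact h2⟩
  · set g := lin (toGLOm ⇑Q) s with hgd
    have hgr : g ^ r = 1 := by rw [hgd, ← map_pow, ← hs, pow_orderOf_eq_one, map_one]
    have h1 := finrank_add (F := F) g
    rw [hse, Module.finrank_fintype_fun_eq_card] at h1
    have hperp : ∀ v ∈ K g, ∀ w ∈ R g, polar (⇑Q) v w = 0 := by
      intro v hv w hw
      obtain ⟨x, rfl⟩ := mem_R.1 hw
      rw [QuadraticMap.polar_sub_right]
      have h2 := hinv s v x
      rw [polarBilin_apply_apply, polarBilin_apply_apply, mem_K.1 hv] at h2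
      rw [h2, sub_self]
    obtain ⟨u, a, hu0, hu, hua, ha⟩ := exists_pair (Q.comp (K g).subtype) (by omega) (by
      intro v hv
      apply Subtype.ext
      apply hQ.1
      intro w
      rw [polarBilin_apply_apply]
      obtain ⟨k, hk, t, ht, rfl⟩ := decomp hgr (cast_ne_zero' hr) w
      rw [QuadraticMap.polar_add_right, hperp v.1 v.2 t ht, add_zero]
      exact hv ⟨k, hk⟩)
    exact dvd_centralizer_orth Q hQ s (u := u.1) (a := a.1) (fun h => hu0 (Subtype.ext h)) hu hua ha
      (mem_K.1 u.2) (mem_K.1 a.2)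

end

end Cfsg.Agent.H951.Two
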