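import Mathlib

/-!
# Regular elements in groups with cyclic Sylow subgroups (helper951, S5734)

`sing_half`: `H` finite, all `u`-subgroups cyclic, `p ∣ |H|` and no element of order `u` normalises a nontrivial
`p`-subgroup: at most half of the elements of `H` have order divisible by `u`.
-/

set_option autoImplicit false

namespace Cfsg.Agent.H951.Two

open Subgroup

section

variable {H : Type*} [Group H] [Finite H] {u : ℕ} [hu : Fact u.Prime]

/-- in a finite cyclic group the elements of order `u` generate the same subgroup -/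
theorem zpowers_eq_of_cyclic {C : Type*} [Group C] [Finite C] [IsCyclic C] {r : ℕ} {a b : C} (ha : orderOf a = r)
    (hb : orderOf b = r) (hr : 0 < r) : b ∈ zpowers a := by
  classical
  have : Fintype C := Fintype.ofFinite C
  have h1 : (Finset.univ.filter fun x : C => x ^ r = 1).card ≤ r := IsCyclic.card_pow_eq_one_le hr
  have h2 : (Finset.univ.filter fun x : C => x ∈ zpowers a) ⊆ Finset.univ.filter fun x : C => x ^ r = 1 := by
    intro x hx
    rw [Finset.mem_filter] at hx ⊢
    obtain ⟨j, rfl⟩ := hx.2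
    refine ⟨hx.1, ?_⟩
    change (a ^ j) ^ r = 1
    rw [← ha, ← zpow_natCast, ← zpow_mul, mul_comm, zpow_mul, zpow_natCast, pow_orderOf_eq_one, one_zpow]
  have h3 : (Finset.univ.filter fun x : C => x ∈ zpowers a).card = r := by
    rw [← ha, ← Nat.card_zpowers, Nat.card_eq_fintype_card, Fintype.card_subtype]
  have h4 := Finset.eq_of_subset_of_card_le h2 (by rw [h3]; exact h1)
  have h5 : b ∈ Finset.univ.filter fun x : C => x ^ r = 1 := by
    rw [Finset.mem_filter]
    exact ⟨Finset.mem_univ _, by rw [← hb]; exact pow_orderOf_eq_one b⟩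
  rw [← h4, Finset.mem_filter] at h5
  exact h5.2

/-- all subgroups of order `u` are conjugate -/
theorem exists_conj_zpowers (hcyc : ∀ P : Subgroup H, IsPGroup u P → IsCyclic P) {a b : H} (ha : orderOf a = u)
    (hb : orderOf b = u) : ∃ c : H, c * a * c⁻¹ ∈ zpowers b := by
  have hz : ∀ {x : H}, orderOf x = u → IsPGroup u (zpowers x) := fun {x} hx =>
    IsPGroup.of_card (n := 1) (by rw [Nat.card_zpowers, hx, pow_one])
  obtain ⟨P, hP⟩ := (hz ha).exists_le_sylow
  obtain ⟨Q, hQ⟩ := (hz hb).exists_le_sylow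
  obtain ⟨c, hc⟩ := MulAction.exists_smul_eq H P Q
  have haP : a ∈ (P : Subgroup H) := hP (mem_zpowers a)
  have hbQ : b ∈ (Q : Subgroup H) := hQ (mem_zpowers b)
  have haQ : c * a * c⁻¹ ∈ (Q : Subgroup H) := by
    rw [← hc]
    exact ⟨a, haP, rfl⟩
  have hcy : IsCyclic (Q : Subgroup H) := hcyc Q Q.isPGroup'
  have h1 : orderOf (⟨c * a * c⁻¹, haQ⟩ : (Q : Subgroup H)) = u := by
    rw [Subgroup.orderOf_mk, ← ha]
    exact orderOf_injective (MulAut.conj c).toMonoidHom (MulAut.conj c).injective a
  have h2 : orderOf (⟨b, hbQ⟩ : (Q : Subgroup H)) = u := by rw [Subgroup.orderOf_mk, hb]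
  obtain ⟨j, hj⟩ := zpowers_eq_of_cyclic h2 h1 hu.out.pos
  exact ⟨c, j, congrArg Subtype.val hj⟩

/-- an automorphism of order prime to `u` of a cyclic `u`-group which is trivial on the elements of order `u` -/
theorem conj_eq_of_coprime {P : Subgroup H} (hP : IsPGroup u P) [IsCyclic P] {g : H}
    (hg : ∀ z ∈ P, g * z * g⁻¹ ∈ P) (hgu : ¬ u ∣ orderOf g) (hfix : ∀ z ∈ P, orderOf z = u → g * z * g⁻¹ = z)
    {z : H} (hz : z ∈ P) : g * z * g⁻¹ = z := by
  obtain ⟨⟨w, hw⟩, hgen⟩ := IsCyclic.exists_generator (α := P)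
  have hgen' : ∀ z ∈ P, z ∈ zpowers w := fun z hz => by
    obtain ⟨j, hj⟩ := hgen ⟨z, hz⟩
    exact ⟨j, congrArg Subtype.val hj⟩
  -- it is enough to treat the generator
  suffices hmain : g * w * g⁻¹ = w by
    obtain ⟨j, rfl⟩ := hgen' z hz
    change g * w ^ j * g⁻¹ = w ^ j
    rw [← conj_zpow, hmain]
  obtain ⟨b, hb⟩ : ∃ b, orderOf w = u ^ b := by
    obtain ⟨b, hb⟩ := IsPGroup.iff_orderOf.1 hP ⟨w, hw⟩
    exact ⟨b, by rw [← hb, Subgroup.orderOf_mk]⟩
  rcases Nat.eq_zero_or_pos b with rfl | hb0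
  · rw [pow_zero, orderOf_eq_one_iff] at hb
    rw [hb]; group
  obtain ⟨j, hj⟩ : ∃ j : ℕ, g * w * g⁻¹ = w ^ j := by
    have h1 := hgen' _ (hg w hw)
    rw [← mem_powers_iff_mem_zpowers] at h1
    obtain ⟨j, hj⟩ := h1
    exact ⟨j, hj.symm⟩
  have hupos := hu.out.pos
  -- `j ≡ 1 (mod u)`
  have h1 : w ^ (u ^ (b - 1) * j) = w ^ (u ^ (b - 1)) := by
    have h2 : orderOf (w ^ u ^ (b - 1)) = u := by
      rw [orderOf_pow, hb, Nat.gcd_eq_right (pow_dvd_pow u (by omega))]
      obtain ⟨c, rfl⟩ : ∃ c, b = c + 1 := ⟨b - 1, by omega⟩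
      rw [Nat.add_sub_cancel, pow_succ]
      exact Nat.mul_div_cancel_left _ (pow_pos hupos c)
    have h3 := hfix (w ^ u ^ (b - 1)) (pow_mem hw _) h2
    rw [← conj_pow, hj, ← pow_mul] at h3
    rw [mul_comm (u ^ (b - 1)) j]
    exact h3
  have hju : j ≡ 1 [MOD u] := by
    rw [pow_eq_pow_iff_modEq, hb] at h1
    obtain ⟨c, rfl⟩ : ∃ c, b = c + 1 := ⟨b - 1, by omega⟩
    rw [Nat.add_sub_cancel, pow_succ] at h1
    have h2 : u ^ c * j ≡ u ^ c * 1 [MOD u ^ c * u] := by rwa [mul_one]
    exact Nat.ModEq.mul_left_cancel' (pow_pos hupos c).ne' h2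
  -- hence `g ^ (u ^ (b - 1))` centralises `w`
  have hpow : ∀ n : ℕ, g ^ n * w * (g ^ n)⁻¹ = w ^ j ^ n := by
    intro n
    induction n with
    | zero => simp
    | succ n ih =>
      have h2 : g ^ (n + 1) * w * (g ^ (n + 1))⁻¹ = g * (g ^ n * w * (g ^ n)⁻¹) * g⁻¹ := by
        rw [pow_succ' g n, mul_inv_rev]; group
      rw [h2, ih, ← conj_pow, hj, ← pow_mul, pow_succ' j n]
  have hjn : w ^ j ^ u ^ (b - 1) = w := by
    have h2 : w ^ j ^ u ^ (b - 1) = w ^ 1 := by
      rw [pow_eq_pow_iff_modEq, hb]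
      have h3 : ((u : ℕ) : ℤ) ∣ (j : ℤ) - 1 := by
        have := (Nat.modEq_iff_dvd.1 hju.symm)
        simpa using this
      have h4 := dvd_sub_pow_of_dvd_sub h3 (b - 1)
      rw [one_pow, Nat.sub_add_cancel hb0] at h4
      refine (Nat.modEq_iff_dvd.2 ?_).symm
      push_cast
      exact h4
    rwa [pow_one] at h2
  have hc1 : Commute (g ^ u ^ (b - 1)) w := by
    have h2 := hpow (u ^ (b - 1))
    rw [hjn] at h2
    exact mul_inv_eq_iff_eq_mul.1 h2
  have hcop : Nat.Coprime (orderOf g) (u ^ (b - 1)) :=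
    (((Nat.Prime.coprime_iff_not_dvd hu.out).2 hgu).pow_left _).symm
  have hc2 : Commute g w := by
    have h2 : g ∈ zpowers (g ^ u ^ (b - 1)) := by
      have h3 : zpowers (g ^ u ^ (b - 1)) = zpowers g :=
        Subgroup.eq_of_le_of_card_ge (by rw [zpowers_le]; exact pow_mem (mem_zpowers g) _)
          (by rw [Nat.card_zpowers, Nat.card_zpowers, orderOf_pow, hcop.gcd_eq_one, Nat.div_one])
      rw [h3]
      exact mem_zpowers g
    obtain ⟨k, hk⟩ := h2
    rw [← hk]
    exact hc1.zpow_left k
  rw [hc2.eq]; group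

/-- the number of elements of order divisible by `u` -/
noncomputable def sing (u : ℕ) (H : Type*) [Group H] : ℕ := Nat.card {h : H // u ∣ orderOf h}

/-- if the normaliser of `⟨x⟩`, `x` of order `u`, does not centralise `x` -/
theorem sing_le_of_normalizer (hcyc : ∀ P : Subgroup H, IsPGroup u P → IsCyclic P) {x : H} (hx : orderOf x = u)
    (hN : ∃ g ∈ normalizer (zpowers x : Set H), ¬ Commute g x) : 2 * sing u H ≤ Nat.card H := by
  classical
  set N := normalizer (zpowers x : Set H) with hNd
  set C := centralizer ({x} : Set H) with hC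
  have hCN : C ≤ N := by
    intro g hg
    rw [hC, mem_centralizer_singleton_iff] at hg
    rw [hNd, mem_normalizer_iff]
    intro z
    have key : ∀ {g : H}, g * x = x * g → ∀ z, z ∈ zpowers x → g * z * g⁻¹ ∈ zpowers x := by
      rintro g hg _ ⟨j, rfl⟩
      refine ⟨j, ?_⟩
      change x ^ j = g * x ^ j * g⁻¹
      have h1 : Commute g x := hg
      rw [(h1.zpow_right j).eq]; group
    constructor
    · exact key hg z
    · intro hz
      have h1 : g⁻¹ * x = x * g⁻¹ := (Commute.inv_left (show Commute g x from hg)).eq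
      have h2 := key h1 _ hz
      have h3 : g⁻¹ * (g * z * g⁻¹) * g⁻¹⁻¹ = z := by group
      rwa [h3] at h2
  -- `2 |C| ≤ |N|`
  have hcard : 2 * Nat.card C ≤ Nat.card N := by
    have h1 : (C.subgroupOf N).index ≠ 1 := by
      intro h
      rw [Subgroup.index_eq_one] at h
      obtain ⟨g, hg, hgc⟩ := hN
      have h2 : (⟨g, hg⟩ : N) ∈ C.subgroupOf N := by rw [h]; exact mem_top _
      exact hgc (mem_centralizer_singleton_iff.1 (mem_subgroupOf.1 h2))
    have h2 : (C.subgroupOf N).index ≠ 0 := Subgroup.index_ne_zero_of_finite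
    have h3 := (C.subgroupOf N).card_mul_index
    have h4 : Nat.card (C.subgroupOf N) = Nat.card C := Nat.card_congr (subgroupOfEquivOfLe hCN).toEquiv
    rw [h4] at h3
    calc 2 * Nat.card C = Nat.card C * 2 := mul_comm _ _
      _ ≤ Nat.card C * (C.subgroupOf N).index := Nat.mul_le_mul_left _ (by omega)
      _ = Nat.card N := h3
  -- the map
  have key : ∀ y : {h : H // u ∣ orderOf h}, ∃ g : H, g⁻¹ * y.1 * g ∈ C := by
    intro y
    have hy := y.2
    have h1 : orderOf (y.1 ^ (orderOf y.1 / u)) = u := orderOf_pow_orderOf_div (orderOf_pos y.1).ne' hy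
    obtain ⟨c, hc⟩ := exists_conj_zpowers hcyc hx h1
    refine ⟨c, ?_⟩
    rw [hC, mem_centralizer_singleton_iff]
    have h2 : Commute y.1 (c * x * c⁻¹) := by
      obtain ⟨j, hj⟩ := hc
      rw [← show (y.1 ^ (orderOf y.1 / u)) ^ j = c * x * c⁻¹ from hj]
      exact (Commute.self_pow y.1 _).zpow_right j
    have h3 : y.1 * (c * x * c⁻¹) = (c * x * c⁻¹) * y.1 := h2
    have h4 : c⁻¹ * (y.1 * (c * x * c⁻¹)) * c = c⁻¹ * ((c * x * c⁻¹) * y.1) * c := by rw [h3]
    calc c⁻¹ * y.1 * c * x = c⁻¹ * (y.1 * (c * x * c⁻¹)) * c := by group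
      _ = c⁻¹ * ((c * x * c⁻¹) * y.1) * c := h4
      _ = x * (c⁻¹ * y.1 * c) := by group
  choose f hf using key
  -- representatives modulo `N`
  have key2 : ∀ y : {h : H // u ∣ orderOf h}, (QuotientGroup.mk (f y) : H ⧸ N).out⁻¹ * y.1 *
      (QuotientGroup.mk (f y) : H ⧸ N).out ∈ C := by
    intro y
    obtain ⟨n, hn⟩ := QuotientGroup.mk_out_eq_mul N (f y)
    rw [hn]
    have h1 := hf y
    have h2 : (f y * n.1)⁻¹ * y.1 * (f y * n.1) = n.1⁻¹ * ((f y)⁻¹ * y.1 * f y) * n.1 := by group
    rw [h2, hC, mem_centralizer_singleton_iff]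
    rw [hC, mem_centralizer_singleton_iff] at h1
    -- `n x n⁻¹` is a power of `x`
    obtain ⟨j, hj⟩ : n.1 * x * n.1⁻¹ ∈ zpowers x := (mem_normalizer_iff.1 n.2 x).1 (mem_zpowers x)
    have hj' : x ^ j = n.1 * x * n.1⁻¹ := hj
    set w := (f y)⁻¹ * y.1 * f y with hw
    have h3 : Commute w (n.1 * x * n.1⁻¹) := by
      rw [← hj']
      exact (show Commute w x from h1).zpow_right j
    have h4 : w * (n.1 * x * n.1⁻¹) = (n.1 * x * n.1⁻¹) * w := h3
    calc n.1⁻¹ * w * n.1 * x = n.1⁻¹ * (w * (n.1 * x * n.1⁻¹)) * n.1 := by group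
      _ = n.1⁻¹ * ((n.1 * x * n.1⁻¹) * w) * n.1 := by rw [h4]
      _ = x * (n.1⁻¹ * w * n.1) := by group
  have h1 : sing u H ≤ Nat.card ((H ⧸ N) × C) := by
    refine Nat.card_le_card_of_injective (fun y : {h : H // u ∣ orderOf h} =>
      ((QuotientGroup.mk (f y) : H ⧸ N), (⟨_, key2 y⟩ : C))) ?_
    intro y y' hyy
    obtain ⟨h3, h4⟩ := Prod.mk.inj hyy
    have h5 := congrArg Subtype.val h4
    dsimp only at h5
    rw [h3] at h5
    apply Subtype.ext
    exact mul_left_cancel (mul_right_cancel h5)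
  rw [Nat.card_prod] at h1
  have h2 : Nat.card (H ⧸ N) = N.index := rfl
  rw [h2] at h1
  calc 2 * sing u H ≤ 2 * (N.index * Nat.card C) := Nat.mul_le_mul_left _ h1
    _ = N.index * (2 * Nat.card C) := by ring
    _ ≤ N.index * Nat.card N := Nat.mul_le_mul_left _ hcard
    _ = Nat.card H := N.index_mul_card

/-- **At most half of the elements are singular**, unless there is a normal `u`-complement. -/
theorem sing_half_of_not_nilp (hcyc : ∀ P : Subgroup H, IsPGroup u P → IsCyclic P)
    (hn : ¬ ∃ K : Subgroup H, K.Normal ∧ ¬ u ∣ Nat.card K ∧ ∃ n, K.index = u ^ n) :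
    2 * sing u H ≤ Nat.card H := by
  obtain ⟨P⟩ : Nonempty (Sylow u H) := inferInstance
  have hPc : IsCyclic (P : Subgroup H) := hcyc P P.isPGroup'
  by_cases hd : u ∣ Nat.card H
  · -- an element of order `u` in `P`
    obtain ⟨⟨x, hxP⟩, hx'⟩ : ∃ x : (P : Subgroup H), orderOf x = u := by
      apply exists_prime_orderOf_dvd_card'
      exact P.dvd_card_of_dvd_card hd
    have hx : orderOf x = u := by rw [← hx', Subgroup.orderOf_mk]
    by_cases hNC : normalizer (P : Set H) ≤ centralizer (P : Set H)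
    · exfalso
      apply hn
      refine ⟨(MonoidHom.transferSylow P hNC).ker, inferInstance, ?_, ?_⟩
      · exact MonoidHom.not_dvd_card_ker_transferSylow P hNC
      · have h1 := MonoidHom.ker_transferSylow_isComplement' P hNC
        obtain ⟨n, hn⟩ := IsPGroup.iff_card.1 P.isPGroup'
        refine ⟨n, ?_⟩
        rw [← hn]
        have h2 := h1.card_mul_card
        have h3 := (MonoidHom.transferSylow P hNC).ker.card_mul_index
        exact Nat.eq_of_mul_eq_mul_left Nat.card_pos (h3.trans h2.symm)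
    · -- an element of the normaliser which does not centralise `P`
      apply sing_le_of_normalizer hcyc hx
      by_contra hcon
      push Not at hcon
      apply hNC
      intro g hg
      rw [mem_centralizer_iff]
      intro z hz
      have hgz : Commute g z := by
        obtain ⟨a, m, hm, ham⟩ := Nat.exists_eq_pow_mul_and_not_dvd (orderOf_pos g).ne' u hu.out.ne_one
        -- `g ^ m` is in `P`
        have h1 : g ^ m ∈ (P : Subgroup H) := by
          have h2 : IsPGroup u (zpowers (g ^ m)) := by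
            refine IsPGroup.of_card (n := a) ?_
            rw [Nat.card_zpowers, orderOf_pow, ham, Nat.gcd_mul_left_left, Nat.mul_div_cancel _ (by
              rcases Nat.eq_zero_or_pos m with h | h
              · exact absurd (h ▸ dvd_zero u) hm
              · exact h)]
          have h3 := h2.inf_normalizer_sylow P
          have h4 : g ^ m ∈ zpowers (g ^ m) ⊓ normalizer (P : Set H) := ⟨mem_zpowers _, pow_mem hg m⟩
          rw [h3] at h4
          exact h4.2
        have h2 : Commute (g ^ m) z := by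
          have h3 : (⟨g ^ m, h1⟩ : (P : Subgroup H)) * ⟨z, hz⟩ = ⟨z, hz⟩ * ⟨g ^ m, h1⟩ := by
            let _ : CommGroup (P : Subgroup H) := IsCyclic.commGroup
            exact mul_comm _ _
          exact congrArg Subtype.val h3
        -- `g ^ (u ^ a)` centralises `P`
        have hk : g ^ u ^ a ∈ normalizer (P : Set H) := pow_mem hg _
        have hk2 : ∀ w ∈ (P : Subgroup H), g ^ u ^ a * w * (g ^ u ^ a)⁻¹ ∈ (P : Subgroup H) := fun w hw =>
          (mem_normalizer_iff.1 hk w).1 hw
        have hmem : ∀ w ∈ (P : Subgroup H), orderOf w = u → w ∈ zpowers x := by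
          intro w hw hwu
          have h4 := zpowers_eq_of_cyclic (C := (P : Subgroup H)) (a := ⟨x, hxP⟩) (b := ⟨w, hw⟩) (r := u) hx'
            (by rw [Subgroup.orderOf_mk, hwu]) hu.out.pos
          obtain ⟨j, hj⟩ := h4
          exact ⟨j, congrArg Subtype.val hj⟩
        have h3 : Commute (g ^ u ^ a) z := by
          have h4 := conj_eq_of_coprime P.isPGroup' (g := g ^ u ^ a) hk2 (by
            rw [orderOf_pow, ham, Nat.gcd_mul_right_left, Nat.mul_div_cancel_left _ (pow_pos hu.out.pos a)]
            exact hm) (fun w hw hwu => by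
              have h5 : g ^ u ^ a ∈ normalizer (zpowers x : Set H) := by
                have key : ∀ k : H, (∀ w ∈ (P : Subgroup H), k * w * k⁻¹ ∈ (P : Subgroup H)) →
                    ∀ w, w ∈ zpowers x → k * w * k⁻¹ ∈ zpowers x := by
                  rintro k hk _ ⟨j, rfl⟩
                  have h6 : k * x * k⁻¹ ∈ zpowers x := hmem _ (hk x hxP) (by
                    rw [← hx]
                    exact orderOf_injective (MulAut.conj k).toMonoidHom (MulAut.conj k).injective x)
                  change k * x ^ j * k⁻¹ ∈ zpowers x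
                  rw [← conj_zpow]
                  exact zpow_mem h6 j
                rw [mem_normalizer_iff]
                intro w
                constructor
                · exact key _ hk2 w
                · intro hw
                  have h7 := key (g ^ u ^ a)⁻¹ (fun w hw => (mem_normalizer_iff.1 (inv_mem hk) w).1 hw) _ hw
                  have h8 : (g ^ u ^ a)⁻¹ * (g ^ u ^ a * w * (g ^ u ^ a)⁻¹) * (g ^ u ^ a)⁻¹⁻¹ = w := by group
                  rwa [h8] at h7
              have h6 := hcon _ h5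
              obtain ⟨j, hj⟩ := hmem w hw hwu
              have h7 : Commute (g ^ u ^ a) w := by
                rw [← show x ^ j = w from hj]
                exact h6.zpow_right j
              rw [h7.eq]; group) hz
          exact mul_inv_eq_iff_eq_mul.1 h4
        -- conclusion
        have hcop : Nat.Coprime m (u ^ a) := ((Nat.Prime.coprime_iff_not_dvd hu.out).2 hm).symm.pow_right a
        have h4 := Nat.gcd_eq_gcd_ab m (u ^ a)
        rw [hcop.gcd_eq_one] at h4
        have h5 : g = (g ^ m) ^ (Nat.gcdA m (u ^ a)) * (g ^ u ^ a) ^ (Nat.gcdB m (u ^ a)) := by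
          rw [← zpow_natCast g m, ← zpow_natCast g (u ^ a), ← zpow_mul, ← zpow_mul, ← zpow_add, ← h4]
          simp
        rw [h5]
        exact (h2.zpow_left _).mul_left (h3.zpow_left _)
      exact hgz.symm.eq
  · have h1 : sing u H = 0 := by
      unfold sing
      rw [Nat.card_eq_zero]
      left
      exact ⟨fun y => hd (y.2.trans (orderOf_dvd_natCard y.1))⟩
    rw [h1]; simp

/-- **The form used.** -/
theorem sing_half (hcyc : ∀ P : Subgroup H, IsPGroup u P → IsCyclic P) {p : ℕ} (hp : p.Prime) (hpu : p ≠ u)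
    (hpH : p ∣ Nat.card H) (hno : ∀ S : Subgroup H, IsPGroup p S → S ≠ ⊥ → ∀ y : H, orderOf y = u →
      (∀ s ∈ S, y * s * y⁻¹ ∈ S) → False) : 2 * sing u H ≤ Nat.card H := by
  have := Fact.mk hp
  by_cases hd : u ∣ Nat.card H
  · apply sing_half_of_not_nilp hcyc
    rintro ⟨K, hK, hKu, n, hn⟩
    have hpK : p ∣ Nat.card K := by
      have h1 := K.card_mul_index
      rw [hn] at h1
      rw [← h1] at hpH
      rcases hp.dvd_mul.1 hpH with h2 | h2
      · exact h2
      · exact absurd ((Nat.prime_dvd_prime_iff_eq hp hu.out).1 (hp.dvd_of_dvd_pow h2)) hpu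
    obtain ⟨S⟩ : Nonempty (Sylow p K) := inferInstance
    set S' : Subgroup H := (S : Subgroup K).map K.subtype with hS'
    have hS1 : IsPGroup p S' := S.isPGroup'.map _
    have hS2 : S' ≠ ⊥ := by
      intro h
      rw [hS', Subgroup.map_eq_bot_iff_of_injective _ K.subtype_injective] at h
      have h1 := S.dvd_card_of_dvd_card hpK
      rw [h, Subgroup.card_bot] at h1
      exact hp.one_lt.ne' (Nat.dvd_one.1 h1)
    have h1 := Sylow.normalizer_sup_eq_top S
    -- `u` divides the order of the normaliser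
    have h2 : u ∣ Nat.card (normalizer (S' : Set H)) := by
      have h3 : K.index ∣ Nat.card (normalizer (S' : Set H)) := by
        rw [← Subgroup.relIndex_top_right, ← h1, Subgroup.relIndex_sup_right]
        exact Subgroup.relIndex_dvd_card _ _
      refine dvd_trans ?_ h3
      have h4 := K.card_mul_index
      rw [← h4] at hd
      exact (hu.out.dvd_mul.1 hd).resolve_left hKu
    obtain ⟨⟨y, hy⟩, hyu⟩ := exists_prime_orderOf_dvd_card' u h2
    rw [Subgroup.orderOf_mk] at hyu
    exact hno S' hS1 hS2 y hyu fun s hs => (mem_normalizer_iff.1 hy s).1 hs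
  · have h1 : sing u H = 0 := by
      unfold sing
      rw [Nat.card_eq_zero]
      left
      exact ⟨fun y => hd (y.2.trans (orderOf_dvd_natCard y.1))⟩
    rw [h1]; simp

end

end Cfsg.Agent.H951.Two
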