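import Cfsg.Agent.H951.Two.Gen
import Cfsg.Agent.H264.FKS.TwoFam
import Cfsg.Agent.LieClassical.SympTransvection

/-!
# The bound for the symplectic groups (helper951, S5734)
-/

set_option autoImplicit false
set_option linter.unusedSectionVars false

namespace Cfsg.Agent.H951.Two

open Cfsg Module Cfsg.Agent.H200.LinFix Cfsg.Agent.H264.FKS Cfsg.Agent.H436 Matrix Cfsg.Agent.OrdDiv
  Cfsg.Agent.H915.GN Cfsg.Agent.H264.GN Cfsg.Agent.LieClassical.SympTransvection

section coords

variable (α β F : Type*) [Field F]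

/-- the first coordinates -/
def inL : (α → F) →ₗ[F] (α ⊕ β → F) where
  toFun x := Sum.elim x 0
  map_add' x y := by
    ext i
    cases i <;> simp
  map_smul' c x := by
    ext i
    cases i <;> simp

/-- the last coordinates -/
def inR : (β → F) →ₗ[F] (α ⊕ β → F) where
  toFun x := Sum.elim (0 : α → F) x
  map_add' x y := by
    ext i
    cases i <;> simp
  map_smul' c x := by
    ext i
    cases i <;> simp

variable {α β F}

theorem inL_apply (x : α → F) : inL α β F x = Sum.elim x (0 : β → F) := rfl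

theorem inR_apply (x : β → F) : inR α β F x = Sum.elim (0 : α → F) x := rfl

theorem inL_injective : Function.Injective (inL α β F) := fun x y h => by
  funext i
  exact congrFun h (Sum.inl i)

theorem inR_injective : Function.Injective (inR α β F) := fun x y h => by
  funext i
  exact congrFun h (Sum.inr i)

theorem eq_inL_add_inR (v : α ⊕ β → F) : v = inL α β F (v ∘ Sum.inl) + inR α β F (v ∘ Sum.inr) := by
  ext i
  cases i <;> simp [inL_apply, inR_apply]

end coords

section

variable {F : Type} [Field F] [Fintype F] {m : ℕ}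

/-- the symplectic form -/
noncomputable def omB (m : ℕ) (F : Type) [Field F] : LinearMap.BilinForm F (Fin m ⊕ Fin m → F) :=
  LinearMap.mk₂ F (fun v w => om v w) om_add_left om_smul_left om_add_right om_smul_right

theorem omB_apply (v w : Fin m ⊕ Fin m → F) : omB m F v w = om v w := rfl

theorem om_mulVec (A : symplecticGroup (Fin m) F) (v w : Fin m ⊕ Fin m → F) : om (A.1 *ᵥ v) (A.1 *ᵥ w) = om v w := by
  have h1 : A.1ᵀ * J (Fin m) F * A.1 = J (Fin m) F := SymplecticGroup.mem_iff'.1 A.2
  rw [om_def, om_def, ← vecMul_transpose A.1 v, ← dotProduct_mulVec, mulVec_mulVec, mulVec_mulVec, h1]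

/-- the decomposition -/
theorem split_sp : Split (omB m F) (LinearMap.range (inL (Fin m) (Fin m) F))
    (LinearMap.range (inR (Fin m) (Fin m) F)) ⊥ m where
  sum v := ⟨_, ⟨_, rfl⟩, _, ⟨_, rfl⟩, 0, Submodule.zero_mem _, by rw [add_zero]; exact eq_inL_add_inR v⟩
  b11 := by
    rintro _ ⟨x, rfl⟩ _ ⟨y, rfl⟩
    simp [omB_apply, om_eq_sum, inL_apply]
  b22 := by
    rintro _ ⟨x, rfl⟩ _ ⟨y, rfl⟩
    simp [omB_apply, om_eq_sum, inR_apply]
  b10 := by
    intro v _ w hw
    rw [(Submodule.mem_bot F).1 hw, map_zero]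
  b01 := by
    intro w hw v _
    rw [(Submodule.mem_bot F).1 hw, map_zero, LinearMap.zero_apply]
  b20 := by
    intro v _ w hw
    rw [(Submodule.mem_bot F).1 hw, map_zero]
  b02 := by
    intro w hw v _
    rw [(Submodule.mem_bot F).1 hw, map_zero, LinearMap.zero_apply]
  f1 := by rw [LinearMap.finrank_range_of_inj inL_injective, Module.finrank_fintype_fun_eq_card, Fintype.card_fin]
  f2 := by rw [LinearMap.finrank_range_of_inj inR_injective, Module.finrank_fintype_fun_eq_card, Fintype.card_fin]
  f0 := by rw [finrank_bot]; omega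
  nd1 := by
    intro v hv
    by_contra h0
    obtain ⟨w, hw⟩ := exists_om_ne_zero h0
    exact hw (hv w)
  nd2 := by
    intro v hv
    by_contra h0
    obtain ⟨w, hw⟩ := exists_om_ne_zero h0
    apply hw
    rw [om_swap, ← omB_apply, hv w, neg_zero]

/-- transvections commuting with an element fixing a vector -/
theorem dvd_centralizer_sp {p : ℕ} [hp : Fact p.Prime] [CharP F p] (s : symplecticGroup (Fin m) F)
    {v : Fin m ⊕ Fin m → F} (hv0 : v ≠ 0) (hv : s.1 *ᵥ v = v) :
    p ∣ Nat.card (Subgroup.centralizer ({s} : Set (symplecticGroup (Fin m) F))) := by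
  have hpow : ∀ k : ℕ, (tvS (1 : F) v) ^ k = tvS (k : F) v := by
    intro k
    induction k with
    | zero =>
      apply Subtype.ext
      apply Matrix.mulVec_injective
      funext x
      rw [pow_zero, Nat.cast_zero, coe_tvS, tv_mulVec, zero_mul, zero_smul, add_zero]
      exact one_mulVec x
    | succ k ih =>
      apply Subtype.ext
      apply Matrix.mulVec_injective
      funext x
      rw [pow_succ, ih]
      change (tv (k : F) v * tv 1 v) *ᵥ x = tv ((k + 1 : ℕ) : F) v *ᵥ x
      rw [← mulVec_mulVec, tv_mulVec, tv_mulVec, tv_mulVec, om_add_left, om_smul_left, om_self, mul_zero, add_zero,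
        add_assoc, ← add_smul]
      push_cast
      congr 2
      ring
  have h1 : (tvS (1 : F) v) ^ p = 1 := by
    rw [hpow, CharP.cast_eq_zero, ← Nat.cast_zero, ← hpow, pow_zero]
  have h2 : tvS (1 : F) v ≠ 1 := by
    intro h
    obtain ⟨w, hw⟩ := exists_om_ne_zero hv0
    have h3 : tv (1 : F) v *ᵥ w = w := by
      have h4 := congrArg (fun A : symplecticGroup (Fin m) F => A.1 *ᵥ w) h
      exact h4.trans (one_mulVec w)
    rw [tv_mulVec, add_eq_left, smul_eq_zero, one_mul] at h3
    rcases h3 with h3 | h3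
    · rw [om_swap, neg_eq_zero] at h3
      exact hw h3
    · exact hv0 h3
  have h3 : orderOf (tvS (1 : F) v) = p := orderOf_eq_prime h1 h2
  have h4 : tvS (1 : F) v ∈ Subgroup.centralizer ({s} : Set (symplecticGroup (Fin m) F)) := by
    rw [Subgroup.mem_centralizer_singleton_iff]
    apply Subtype.ext
    apply Matrix.mulVec_injective
    funext x
    change (tv 1 v * s.1) *ᵥ x = (s.1 * tv 1 v) *ᵥ x
    rw [← mulVec_mulVec, ← mulVec_mulVec, tv_mulVec, tv_mulVec, mulVec_add, mulVec_smul, hv]
    have h5 := om_mulVec s x v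
    rw [hv] at h5
    rw [h5]
  have h5 : orderOf (⟨_, h4⟩ : Subgroup.centralizer ({s} : Set (symplecticGroup (Fin m) F))) = p := by
    rw [Subgroup.orderOf_mk, h3]
  rw [← h5]
  exact orderOf_dvd_natCard _

/-- **The symplectic groups.** -/
theorem two_psp {r : ℕ} (hr : Prim (Nat.card F) m r) (hm : 4 ≤ m) (he : m % 2 = 0) (R : Subgroup (PSp m F))
    (hR : Cyc r R) : 3 * Nat.card (PSp m F) ≤ 20 * (2 * m) * H851.Dg.nd R := by
  let σ : Matrix.symplecticGroup (Fin m) F →* Matrix.GeneralLinearGroup (Fin m ⊕ Fin m) F :=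
    MonoidHom.toHomUnits (Matrix.symplecticGroup (Fin m) F).subtype
  have hσ : Function.Injective σ := fun a b hab => Subtype.ext (congrArg Units.val hab)
  have hσv : ∀ s v, lin σ s v = s.1 *ᵥ v := fun s v => rfl
  have hq : 2 ≤ Nat.card F := Finite.one_lt_card
  obtain ⟨b, hb, hb'⟩ := exists_pow (D := 1) (c := Nat.card (Matrix.symplecticGroup (Fin m) F)) hr (by omega) hq
    (fun h => hr.prime.one_lt.ne' (Nat.dvd_one.1 h)) (by rw [one_mul]) (by
      rw [S0245.result (F := F) rfl m, ← Nat.card_eq_fintype_card]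
      refine Dvd.dvd.mul_left ?_ _
      have := prod_dvd (q := Nat.card F) (by omega) he
      rwa [prB_eq] at this)
  obtain ⟨p, hp⟩ := CharP.exists F
  have : Fact p.Prime := ⟨CharP.char_is_prime F p⟩
  have hlt := lt_of_prim hr
  obtain ⟨d, hd⟩ := exists_good (lin σ) hm he hr ((H934.IdxCl.levSp m F).comp SpecialLinearGroup.toGL) (by
      intro A B hAB
      have h1 := H934.IdxCl.levSp_injective hAB
      exact Subtype.ext (congrArg (fun g : GL (Fin m) F => (g : Matrix (Fin m) (Fin m) F)) h1))
    (inL (Fin m) (Fin m) F) inL_injective (fun A x => by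
      rw [hσv]
      change H934.IdxCl.lev m F _ *ᵥ _ = _
      rw [H934.IdxCl.lev_mulVec, inL_apply, inL_apply, Sum.elim_comp_inl, Sum.elim_comp_inr, mulVec_zero]
      rfl)
    (W₂ := LinearMap.range (inR (Fin m) (Fin m) F)) (V₀ := ⊥) (by
      rintro A _ ⟨x, rfl⟩
      rw [hσv]
      change H934.IdxCl.lev m F _ *ᵥ _ ∈ _
      rw [H934.IdxCl.lev_mulVec, inR_apply, Sum.elim_comp_inl, Sum.elim_comp_inr, mulVec_zero]
      exact ⟨_, rfl⟩)
    (by
      intro A v hv
      rw [(Submodule.mem_bot F).1 hv, map_zero]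
      exact Submodule.zero_mem _)
  have h1 := two_of (p := p) σ hσ (QuotientGroup.mk' (Subgroup.center (Matrix.symplecticGroup (Fin m) F)))
    (QuotientGroup.mk'_surjective _) (fun k hk => by
      have h1 := (QuotientGroup.eq_one_iff k).1 hk
      exact (LieClassical.SympCenter.mem_center_iff m k).1 h1) hr (by omega) (by omega)
    (by rw [Fintype.card_sum, Fintype.card_fin]; omega) hb hb' (omB m F) (fun h v w => om_mulVec h v w)
    (fun s hs hse => by
      have h1 := finrank_add (F := F) (lin σ s)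
      rw [hse, Module.finrank_fintype_fun_eq_card, Fintype.card_sum, Fintype.card_fin] at h1
      have h2 : finrank F (K (lin σ s)) ≠ 0 := by omega
      rw [Ne, Submodule.finrank_eq_zero, ← Ne, Submodule.ne_bot_iff] at h2
      obtain ⟨v, hv, hv0⟩ := h2
      exact dvd_centralizer_sp s hv0 (mem_K.1 hv))
    split_sp hd R hR
  rwa [Fintype.card_sum, Fintype.card_fin, ← two_mul] at h1

end

end Cfsg.Agent.H951.Two
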