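import Cfsg.Agent.H951.Two.Lin
import Cfsg.Agent.H951.Two.Count

/-!
# Elements with a power of type one (helper951, S5734)

`type_one`: `X` a finite group of isometries of `V`, `dim V ≤ 2 e + 1`, `e` the order of `q` modulo `u`, `s` of order `u`
with `dim [V, s] = e`, commuting with an element of order `p`: the proportion of the elements with a power of
order `u` of this kind is at least `2 / (5 dim V)`.
-/

set_option autoImplicit false
set_option linter.unusedSectionVars false

namespace Cfsg.Agent.H951.Two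

open Module Subgroup Cfsg.Agent.H200.LinFix

/-- `y` has a power of order `u` whose commutator space has dimension `n` -/
def HasType {F V : Type*} [Field F] [AddCommGroup V] [Module F V] {X : Type*} [Group X] (ρ : X →* Module.End F V)
    (u n : ℕ) (y : X) : Prop := u ∣ orderOf y ∧ finrank F (R (ρ (y ^ (orderOf y / u)))) = n

section

variable {C H : Type*} [Group C] [Finite C] [Group H] [Finite H] {u : ℕ} [hu : Fact u.Prime]

/-- counting: `s` central of order `u` in the kernel of `f`; elements singular, with regular image -/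
theorem card_sing_fibre (h5 : 5 ≤ u) (f : C →* H) (hf : Function.Surjective f) (hsing : 2 * sing u H ≤ Nat.card H)
    {s : C} (hs : orderOf s = u) (hc : ∀ y, Commute y s) (hsf : f s = 1) :
    2 * Nat.card C ≤ 5 * Nat.card {y : C // u ∣ orderOf y ∧ f (y ^ (orderOf y / u)) = 1} := by
  classical
  have := Fintype.ofFinite C
  have := Fintype.ofFinite H
  have hsu : s ^ u = 1 := by rw [← hs]; exact pow_orderOf_eq_one s
  -- elements with regular image
  have hR0 : Nat.card {y : C // ¬ u ∣ orderOf (f y)} = Nat.card f.ker * Nat.card {h : H // ¬ u ∣ orderOf h} := by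
    have h1 : Nat.card (Σ h : {h : H // ¬ u ∣ orderOf h}, f ⁻¹' {h.1}) = Nat.card {y : C // ¬ u ∣ orderOf (f y)} := by
      refine Nat.card_congr
        { toFun := fun a => ⟨a.2.1, by rw [show f a.2.1 = a.1.1 from a.2.2]; exact a.1.2⟩
          invFun := fun y => ⟨⟨f y.1, y.2⟩, ⟨y.1, rfl⟩⟩
          left_inv := ?_
          right_inv := fun _ => rfl }
      rintro ⟨⟨h, hh⟩, ⟨y, hy⟩⟩
      have hy' : f y = h := hy
      subst hy'
      rfl
    rw [← h1, Nat.card_sigma, Finset.sum_congr rfl (fun h _ => Nat.card_congr (MonoidHom.fiberEquivKerOfSurjective hf h.1)),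
      Finset.sum_const, Finset.card_univ, smul_eq_mul, mul_comm, Nat.card_eq_fintype_card (α := {h : H // ¬ u ∣ orderOf h})]
  have hCH : Nat.card C = Nat.card f.ker * Nat.card H := by
    rw [← f.ker.card_mul_index, Subgroup.index_ker, MonoidHom.range_eq_top.2 hf, Subgroup.card_top]
  have hsplitH : sing u H + Nat.card {h : H // ¬ u ∣ orderOf h} = Nat.card H := by
    unfold sing
    rw [Nat.card_eq_fintype_card, Nat.card_eq_fintype_card, Nat.card_eq_fintype_card, Fintype.card_subtype_compl]
    have := Fintype.card_subtype_le (fun h : H => u ∣ orderOf h)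
    omega
  have h2 : Nat.card C ≤ 2 * Nat.card {y : C // ¬ u ∣ orderOf (f y)} := by
    rw [hR0, hCH]
    calc Nat.card f.ker * Nat.card H ≤ Nat.card f.ker * (2 * Nat.card {h : H // ¬ u ∣ orderOf h}) :=
          Nat.mul_le_mul_left _ (by omega)
      _ = _ := by ring
  -- regular elements
  have h3 : Nat.card {y : C // ¬ u ∣ orderOf y} * u ≤ Nat.card {y : C // ¬ u ∣ orderOf (f y)} := by
    have h4 : Nat.card ({y : C // ¬ u ∣ orderOf y} × Fin u) = Nat.card {y : C // ¬ u ∣ orderOf y} * u := by
      rw [Nat.card_prod, Nat.card_eq_fintype_card (α := Fin u), Fintype.card_fin]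
    rw [← h4]
    refine Nat.card_le_card_of_injective (fun a => ⟨a.1.1 * s ^ (a.2 : ℕ), ?_⟩) ?_
    · rw [map_mul, map_pow, hsf, one_pow, mul_one]
      exact fun h => a.1.2 (h.trans (orderOf_map_dvd f a.1.1))
    · rintro ⟨⟨y, hy⟩, j⟩ ⟨⟨y', hy'⟩, j'⟩ h
      have h5 : y * s ^ (j : ℕ) = y' * s ^ (j' : ℕ) := congrArg Subtype.val h
      have h6 : y' = y * s ^ ((j : ℤ) - j') := by
        rw [zpow_sub, zpow_natCast, zpow_natCast, ← mul_assoc, h5]; group
      have h7 : s ^ ((j : ℤ) - j') = 1 := by
        by_contra h8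
        have h9 : orderOf (s ^ ((j : ℤ) - j')) = u :=
          orderOf_eq_prime (by rw [← zpow_natCast, ← zpow_mul, mul_comm, zpow_mul, zpow_natCast, hsu, one_zpow]) h8
        apply hy'
        rw [h6, ((hc y).zpow_right _).orderOf_mul_eq_mul_orderOf_of_coprime (by
          rw [h9]
          exact ((Nat.Prime.coprime_iff_not_dvd hu.out).2 hy).symm), h9]
        exact dvd_mul_left _ _
      have h8 : y' = y := by rw [h6, h7, mul_one]
      have h9 : (j : ℤ) - j' = 0 := by
        have h10 := orderOf_dvd_iff_zpow_eq_one.2 h7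
        rw [hs] at h10
        have h11 : |(j : ℤ) - j'| < u := by
          rw [abs_lt]
          have := j.2
          have := j'.2
          constructor <;> omega
        exact Int.eq_zero_of_abs_lt_dvd h10 h11
      have h10 : j = j' := Fin.ext (by omega)
      subst h8 h10
      rfl
  -- the wanted elements
  have h4 : Nat.card {y : C // ¬ u ∣ orderOf (f y)} ≤
      Nat.card {y : C // ¬ u ∣ orderOf y} + Nat.card {y : C // u ∣ orderOf y ∧ f (y ^ (orderOf y / u)) = 1} := by
    rw [← Nat.card_sum]
    refine Nat.card_le_card_of_injective (fun y : {y : C // ¬ u ∣ orderOf (f y)} =>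
      if h : u ∣ orderOf y.1 then Sum.inr ⟨y.1, h, ?_⟩ else Sum.inl ⟨y.1, h⟩) ?_
    · rw [map_pow, ← orderOf_dvd_iff_pow_eq_one]
      have h5 : orderOf (f y.1) ∣ orderOf y.1 := orderOf_map_dvd f y.1
      have h6 : Nat.Coprime (orderOf (f y.1)) u := ((Nat.Prime.coprime_iff_not_dvd hu.out).2 y.2).symm
      obtain ⟨k, hk⟩ := h
      rw [hk, Nat.mul_div_cancel_left _ hu.out.pos]
      rw [hk] at h5
      exact h6.dvd_of_dvd_mul_left h5
    · intro y y' hyy
      dsimp only at hyy
      split_ifs at hyy with h6 h7 h7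
      · exact Subtype.ext (Subtype.mk.inj (Sum.inr.inj hyy))
      · exact Subtype.ext (Subtype.mk.inj (Sum.inl.inj hyy))
  have h5' : Nat.card {y : C // ¬ u ∣ orderOf y} * 5 ≤ Nat.card {y : C // ¬ u ∣ orderOf y} * u :=
    Nat.mul_le_mul_left _ h5
  omega

end

section

variable {F V : Type*} [Field F] [Finite F] [AddCommGroup V] [Module F V] [Finite V] {X : Type*} [Group X] [Finite X]
  (ρ : X →* Module.End F V)

theorem finrank_R_conj (h y : X) : finrank F (R (ρ (h * y * h⁻¹))) = finrank F (R (ρ y)) := by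
  have key : ∀ h y : X, finrank F (R (ρ y)) ≤ finrank F (R (ρ (h * y * h⁻¹))) := fun h y => by
    have h1 : ∀ v ∈ R (ρ y), ρ h v ∈ R (ρ (h * y * h⁻¹)) := by
      rintro _ ⟨w, rfl⟩
      refine ⟨ρ h w, ?_⟩
      change ρ (h * y * h⁻¹) (ρ h w) - ρ h w = ρ h (ρ y w - w)
      rw [map_mul, map_mul, Module.End.mul_apply, Module.End.mul_apply, inv_apply, map_sub]
    exact LinearMap.finrank_le_finrank_of_injective (f := (ρ h).restrict h1) (fun v w hvw => by
      have h2 : ρ h v = ρ h w := congrArg Subtype.val hvw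
      have h3 := congrArg (ρ h⁻¹) h2
      rw [inv_apply, inv_apply] at h3
      exact Subtype.ext h3)
  apply le_antisymm
  · have h1 := key h⁻¹ (h * y * h⁻¹)
    rwa [show h⁻¹ * (h * y * h⁻¹) * h⁻¹⁻¹ = y by group] at h1
  · exact key h y

theorem HasType.conj {u n : ℕ} {y : X} (h : X) (hy : HasType ρ u n y) : HasType ρ u n (h * y * h⁻¹) := by
  have h1 : orderOf (h * y * h⁻¹) = orderOf y :=
    orderOf_injective (MulAut.conj h).toMonoidHom (MulAut.conj h).injective y
  refine ⟨by rw [h1]; exact hy.1, ?_⟩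
  rw [h1, conj_pow, finrank_R_conj]
  exact hy.2

theorem K_conj (h x : X) {v : V} : v ∈ K (ρ (h * x * h⁻¹)) ↔ ρ h⁻¹ v ∈ K (ρ x) := by
  rw [mem_K, mem_K, map_mul, map_mul, Module.End.mul_apply, Module.End.mul_apply]
  constructor
  · intro h1
    have h2 := congrArg (ρ h⁻¹) h1
    rwa [inv_apply] at h2
  · intro h1
    rw [h1, apply_inv]

theorem aeval_conj (h s : X) (f : Polynomial F) :
    Polynomial.aeval (ρ (h * s * h⁻¹)) f = ρ h * Polynomial.aeval (ρ s) f * ρ h⁻¹ := by
  induction f using Polynomial.induction_on' with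
  | add P Q hP hQ => rw [map_add, map_add, hP, hQ, mul_add, add_mul]
  | monomial n c =>
    have h1 : ρ (h * s * h⁻¹) ^ n = ρ h * ρ s ^ n * ρ h⁻¹ := by
      rw [← map_pow, conj_pow, map_mul, map_mul, map_pow]
    rw [Polynomial.aeval_monomial, Polynomial.aeval_monomial, h1, ← mul_assoc, ← mul_assoc, ← mul_assoc,
      Algebra.commutes c (ρ h)]

/-- **Elements with a power of type one.** -/
theorem type_one {p u e : ℕ} [hp : Fact p.Prime] [hu : Fact u.Prime] [CharP F p] (hd : Ordd u (Nat.card F) e)
    (he : 2 ≤ e) (h5 : 5 ≤ u) (huF : (u : F) ≠ 0) (hρ : Function.Injective ρ) (hdim : finrank F V ≤ 2 * e + 1)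
    (b : LinearMap.BilinForm F V) (hb2 : ∀ w, (∀ v, b v w = 0) → w = 0)
    (hinv : ∀ h v w, b (ρ h v) (ρ h w) = b v w) {s : X} (hs : orderOf s = u) (hse : finrank F (R (ρ s)) = e)
    (hps : p ∣ Nat.card (centralizer ({s} : Set X))) :
    2 * Nat.card X ≤ 5 * (finrank F V * Nat.card {y : X // HasType ρ u e y}) := by
  classical
  set g := ρ s with hg
  have hgu : g ^ u = 1 := by rw [hg, ← map_pow, ← hs, pow_orderOf_eq_one, map_one]
  have hg1 : g ≠ 1 := by
    intro h
    have h1 : s = 1 := hρ (h.trans (map_one ρ).symm)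
    rw [h1, orderOf_one] at hs
    exact hu.out.one_lt.ne hs
  have hirr : Irr g (R g) := irr_of_lt hd huF hgu le_rfl (fun w hw => R_inv rfl hw) (by rw [hse]; omega)
  have hsum := finrank_add (F := F) g
  have hpu : p ≠ u := by
    rintro rfl
    exact huF (CharP.cast_eq_zero F p)
  set C := centralizer ({s} : Set X) with hC
  have hcomm : ∀ c : C, ρ c * g = g * ρ c := by
    intro c
    have h1 := mem_centralizer_singleton_iff.1 c.2
    rw [hg, ← map_mul, ← map_mul, h1]
  -- the action on `K g`
  let ρ0 : C →* Module.End F (K g) :=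
    { toFun := fun c => (ρ c).restrict (fun v hv => K_inv (hcomm c) hv)
      map_one' := by ext v; simp
      map_mul' := fun a b => by ext v; simp [Module.End.mul_apply] }
  have hρ0 : ∀ (c : C) (v : K g), ((ρ0 c v : K g) : V) = ρ c v := fun c v => rfl
  let f : C →* ρ0.toHomUnits.range := ρ0.toHomUnits.rangeRestrict
  have hf : Function.Surjective f := ρ0.toHomUnits.rangeRestrict_surjective
  have hfK : ∀ c : C, f c = 1 ↔ ∀ v ∈ K g, ρ c v = v := by
    intro c
    constructor
    · intro h v hv
      have h1 : ρ0.toHomUnits c = 1 := congrArg Subtype.val h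
      have h2 : ρ0 c = 1 := congrArg Units.val h1
      have h3 := hρ0 c ⟨v, hv⟩
      rw [h2] at h3
      exact h3.symm
    · intro h
      apply Subtype.ext
      apply Units.ext
      refine LinearMap.ext fun v => Subtype.ext ?_
      exact h v v.2
  set τ : ρ0.toHomUnits.range →* Module.End F (K g) := (Units.coeHom _).comp ρ0.toHomUnits.range.subtype with hτd
  have hτ : Function.Injective τ := fun a b hab => Subtype.ext (Units.ext hab)
  have hτf : ∀ c : C, τ (f c) = ρ0 c := fun c => rfl
  have hfin : Finite ρ0.toHomUnits.range := Finite.of_surjective f hf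
  -- the form on `K g`
  have hKR : ∀ k ∈ K g, ∀ r ∈ R g, b r k = 0 := by
    rintro k hk _ ⟨w, rfl⟩
    rw [mem_K] at hk
    have h2 := hinv s w k
    rw [← hg, hk] at h2
    change b (g w - w) k = 0
    rw [map_sub, LinearMap.sub_apply, h2, sub_self]
  -- cyclic `u`-subgroups
  have hcyc : ∀ P : Subgroup ρ0.toHomUnits.range, IsPGroup u P → IsCyclic P := fun P hP =>
    isCyclic_of hP (τ.comp P.subtype) (hτ.comp P.subtype_injective) hd huF (by omega)
  -- `p` divides the order of the image
  have hker : ¬ p ∣ Nat.card f.ker := by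
    intro h
    obtain ⟨⟨a, ha⟩, hap⟩ := exists_prime_orderOf_dvd_card' p h
    rw [Subgroup.orderOf_mk] at hap
    have ha' := (hfK a).1 (MonoidHom.mem_ker.1 ha)
    have hap1 : a ^ p = 1 := by rw [← hap]; exact pow_orderOf_eq_one a
    have hnt : Nontrivial (R g) := Submodule.nontrivial_iff_ne_bot.2 (R_ne_bot hg1)
    have hgR : ∀ w ∈ R g, g w ∈ R g := fun w hw => R_inv rfl hw
    have haR : ∀ w ∈ R g, ρ a w ∈ R g := fun w hw => R_inv (hcomm a) hw
    set a' : Module.End F (R g) := (ρ a).restrict haR with ha'd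
    have hpow : ∀ (n : ℕ) (w : R g), ((a' ^ n) w : V) = (ρ a ^ n) w := by
      intro n
      induction n with
      | zero => intro w; rfl
      | succ n ih =>
        intro w
        rw [pow_succ, pow_succ, Module.End.mul_apply, Module.End.mul_apply, ih]
        rfl
    have h1 : a' ^ p = 1 := by
      refine LinearMap.ext fun w => Subtype.ext ?_
      rw [hpow, ← map_pow, ← Subgroup.coe_pow, hap1, Subgroup.coe_one, map_one]
      rfl
    have h0 : a' ≠ 0 := by
      intro h0
      rw [h0, zero_pow hp.out.ne_zero] at h1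
      have hnt' : Nontrivial (Module.End F (R g)) := Module.End.instNontrivial
      exact zero_ne_one h1
    have h2 := pow_card_sub_one (hirr.restrict hgR) (s := a') (by
      ext w
      exact LinearMap.congr_fun (hcomm a) w) h0
    have h3 : a' = 1 := by
      have h4 : Nat.Coprime p (Nat.card (R g) - 1) := by
        rw [Nat.Prime.coprime_iff_not_dvd hp.out]
        intro h5
        have h6 : p ∣ Nat.card (R g) := by
          have h2 : Nat.card (R g) = Nat.card F ^ finrank F (R g) := Module.natCard_eq_pow_finrank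
          have h4 : 0 < finrank F (R g) := Module.finrank_pos
          rw [h2]
          have : Fintype F := Fintype.ofFinite F
          obtain ⟨n, -, hn⟩ := FiniteField.card F p
          rw [Nat.card_eq_fintype_card, hn]
          exact dvd_pow (dvd_pow_self p n.ne_zero) h4.ne'
        have h7 : 0 < Nat.card (R g) := Nat.card_pos
        have h8 := Nat.dvd_sub h6 h5
        rw [Nat.sub_sub_self h7] at h8
        exact hp.out.one_lt.ne' (Nat.dvd_one.1 h8)
      have h5 := Nat.dvd_gcd (orderOf_dvd_of_pow_eq_one h1) (orderOf_dvd_of_pow_eq_one h2)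
      rw [h4.gcd_eq_one, Nat.dvd_one, orderOf_eq_one_iff] at h5
      exact h5
    have h4 : ρ a = 1 := by
      refine LinearMap.ext fun v => ?_
      obtain ⟨k, hk, r, hr, rfl⟩ := decomp hgu huF v
      have h5 : ρ a r = r := by
        have h6 := congrArg Subtype.val (LinearMap.congr_fun h3 ⟨r, hr⟩)
        exact h6
      rw [map_add, ha' k hk, h5]
      rfl
    have h5 : (a : X) = 1 := hρ (h4.trans (map_one ρ).symm)
    have h6 : a = 1 := Subtype.ext h5
    rw [h6, orderOf_one] at hap
    exact hp.out.one_lt.ne hap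
  have hpH : p ∣ Nat.card ρ0.toHomUnits.range := by
    have h1 : Nat.card C = Nat.card f.ker * Nat.card ρ0.toHomUnits.range := by
      rw [← f.ker.card_mul_index, Subgroup.index_ker, MonoidHom.range_eq_top.2 hf, Subgroup.card_top]
    rw [h1] at hps
    exact (hp.out.dvd_mul.1 hps).resolve_left hker
  -- half of the elements are regular
  have hhalf : 2 * sing u ρ0.toHomUnits.range ≤ Nat.card ρ0.toHomUnits.range := by
    refine sing_half hcyc hp.out hpu hpH fun S hS hS1 y hy hyS => ?_
    refine no_normaliser τ hd he huF hτ (by omega) (b.restrict (K g)) ?_ ?_ hS hS1 hy hyS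
    · intro w hw
      apply Subtype.ext
      apply hb2
      intro v
      obtain ⟨k, hk, r, hr, rfl⟩ := decomp hgu huF v
      rw [map_add, LinearMap.add_apply, hKR w w.2 r hr, add_zero]
      exact hw ⟨k, hk⟩
    · intro h v w
      obtain ⟨c, rfl⟩ := hf h
      rw [hτf]
      exact hinv c v w
  -- counting in `C`
  have hsC : s ∈ C := mem_centralizer_singleton_iff.2 rfl
  have h1 := card_sing_fibre (s := (⟨s, hsC⟩ : C)) h5 f hf hhalf (by rw [Subgroup.orderOf_mk, hs]) (fun y => by
    apply Subtype.ext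
    exact mem_centralizer_singleton_iff.1 y.2) ((hfK _).2 fun v hv => mem_K.1 hv)
  -- the relation
  let P : X → X → Prop := fun x y => Commute y x ∧ u ∣ orderOf y ∧ K (ρ x) ≤ K (ρ (y ^ (orderOf y / u)))
  have h2 : Nat.card {y : C // u ∣ orderOf y ∧ f (y ^ (orderOf y / u)) = 1} ≤ Nat.card {y : X // P s y} := by
    refine Nat.card_le_card_of_injective (fun y => ⟨y.1.1, ?_, ?_, ?_⟩) ?_
    · exact mem_centralizer_singleton_iff.1 y.1.2
    · rw [Subgroup.orderOf_coe]; exact y.2.1
    · intro v hv
      rw [mem_K, Subgroup.orderOf_coe, ← Subgroup.coe_pow]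
      exact (hfK _).1 y.2.2 v hv
    · intro y y' h
      exact Subtype.ext (Subtype.ext (Subtype.mk.inj h))
  have hP : ∀ h x y, P x y → P (h * x * h⁻¹) (h * y * h⁻¹) := by
    rintro h x y ⟨hc, hu1, hK⟩
    have h3 : orderOf (h * y * h⁻¹) = orderOf y :=
      orderOf_injective (MulAut.conj h).toMonoidHom (MulAut.conj h).injective y
    refine ⟨?_, by rw [h3]; exact hu1, ?_⟩
    · have h4 := hc.map (MulAut.conj h).toMonoidHom
      exact h4
    · intro v hv
      rw [h3, conj_pow, K_conj]
      exact hK ((K_conj ρ h x).1 hv)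
  -- the type of the power
  have hfr : ∀ x, IsConj s x → finrank F (R (ρ x)) = e := by
    intro x hx
    obtain ⟨h, rfl⟩ := isConj_iff.1 hx
    rw [finrank_R_conj, ← hse]
  have hpow : ∀ {y : X}, u ∣ orderOf y → orderOf (y ^ (orderOf y / u)) = u := fun {y} hy =>
    orderOf_pow_orderOf_div (orderOf_pos y).ne' hy
  have hKeq : ∀ x y, IsConj s x → P x y → finrank F (R (ρ (y ^ (orderOf y / u)))) = e ∧
      K (ρ x) = K (ρ (y ^ (orderOf y / u))) := by
    rintro x y hx ⟨hc, hu1, hK⟩
    set z := y ^ (orderOf y / u) with hz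
    have hzu := hpow hu1
    have hzp : (ρ z) ^ u = 1 := by rw [← map_pow, ← hzu, pow_orderOf_eq_one, map_one]
    have hz1 : ρ z ≠ 1 := by
      intro h
      have h1 : z = 1 := hρ (h.trans (map_one ρ).symm)
      rw [← hz, h1, orderOf_one] at hzu
      exact hu.out.one_lt.ne hzu
    have h3 : 0 < finrank F (R (ρ z)) := by
      have h1 : Nontrivial (R (ρ z)) := Submodule.nontrivial_iff_ne_bot.2 (R_ne_bot hz1)
      exact Module.finrank_pos
    have h4 := Nat.le_of_dvd h3 (dvd_finrank_R hd huF hzp)
    have h5 := finrank_add (F := F) (ρ z)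
    have h6 := finrank_add (F := F) (ρ x)
    have h7 := Submodule.finrank_mono hK
    have h8 := hfr x hx
    exact ⟨by omega, Submodule.eq_of_le_of_finrank_le hK (by omega)⟩
  have h3 := double_count P hP (fun y => HasType ρ u e y) s (M := finrank F V)
    (fun x y hx hxy => ⟨hxy.2.1, (hKeq x y hx hxy).1⟩) (by
    intro y hy
    by_cases hne : ∃ x, IsConj s x ∧ P x y
    · obtain ⟨x0, hx0, hP0⟩ := hne
      obtain ⟨hye, hyK⟩ := hKeq x0 y hx0 hP0
      set z := y ^ (orderOf y / u) with hz
      have hzu := hpow hP0.2.1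
      have hzp : (ρ z) ^ u = 1 := by rw [← map_pow, ← hzu, pow_orderOf_eq_one, map_one]
      have hirrz : Irr (ρ z) (R (ρ z)) := irr_of_lt hd huF hzp le_rfl (fun w hw => R_inv rfl hw) (by rw [hye]; omega)
      have hfin : Finite {x : X // IsConj s x ∧ P x y} := inferInstance
      have := Fintype.ofFinite X
      rw [Nat.card_eq_fintype_card, Fintype.card_subtype]
      have hcz : ∀ x, P x y → ρ x * ρ z = ρ z * ρ x := by
        intro x hx
        have h1 : Commute z x := hx.1.pow_left _
        rw [← map_mul, ← map_mul, h1.eq]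
      refine (card_le_natDegree (g := ρ z) (W := R (ρ z)) (fun w hw => R_inv rfl hw) hirrz ?_
        (f := (ρ s).charpoly) ((ρ s).charpoly_monic).ne_zero _ (fun x => ρ x) (k := 1) ?_ ?_ ?_ ?_).trans ?_
      · intro h
        rw [h, finrank_bot] at hye
        omega
      · intro x hx w hw
        exact R_inv (hcz x (Finset.mem_filter.1 hx).2.2) hw
      · intro x hx w hw
        exact LinearMap.congr_fun (hcz x (Finset.mem_filter.1 hx).2.2) w
      · intro x hx w _
        obtain ⟨h, rfl⟩ := isConj_iff.1 (Finset.mem_filter.1 hx).2.1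
        change (Polynomial.aeval (ρ (h * s * h⁻¹)) (ρ s).charpoly) w = 0
        rw [aeval_conj, LinearMap.aeval_self_charpoly, mul_zero, zero_mul]
        rfl
      · intro x hx Y hY hYx
        rw [Finset.card_le_one]
        intro a ha b' hb'
        have hY' : ∀ a ∈ Y, ρ a = ρ x := by
          intro a ha
          refine LinearMap.ext fun v => ?_
          obtain ⟨k, hk, r, hr, rfl⟩ := decomp hzp huF v
          have h4 := (Finset.mem_filter.1 (hY ha)).2
          have h5 := (Finset.mem_filter.1 hx).2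
          have h6 := (hKeq a y h4.1 h4.2).2
          have h7 := (hKeq x y h5.1 h5.2).2
          have h8 : ρ a k = k := mem_K.1 (by rw [h6]; exact hk)
          have h9 : ρ x k = k := mem_K.1 (by rw [h7]; exact hk)
          rw [map_add, map_add, h8, h9, hYx a ha r hr]
        exact hρ ((hY' a ha).trans (hY' b' hb').symm)
      · rw [one_mul, LinearMap.charpoly_natDegree]
    · have hemp : IsEmpty {x : X // IsConj s x ∧ P x y} := ⟨fun x => hne ⟨x.1, x.2⟩⟩
      rw [Nat.card_of_isEmpty]
      exact Nat.zero_le _)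
  -- conclusion
  have h4 : Nat.card C ≠ 0 := Nat.card_pos.ne'
  have h5 : Nat.card C * (2 * Nat.card X) ≤ Nat.card C * (5 * (finrank F V * Nat.card {y : X // HasType ρ u e y})) := by
    calc Nat.card C * (2 * Nat.card X) = (2 * Nat.card C) * Nat.card X := by ring
      _ ≤ (5 * Nat.card {y : X // P s y}) * Nat.card X := Nat.mul_le_mul_right _ (h1.trans (Nat.mul_le_mul_left _ h2))
      _ = 5 * (Nat.card X * Nat.card {y : X // P s y}) := by ring
      _ ≤ 5 * (Nat.card C * (finrank F V * Nat.card {y : X // HasType ρ u e y})) := Nat.mul_le_mul_left _ h3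
      _ = _ := by ring
  exact Nat.le_of_mul_le_mul_left h5 (Nat.pos_of_ne_zero h4)

end

end Cfsg.Agent.H951.Two
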