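import Cfsg.Agent.H951.Two.TypeOne

/-!
# Elements with a power of type two (helper951, S5734)

`type_two`: `X` a finite group of isometries of `V = W₁ ⊕ W₂ ⊕ V₀`, `W₁`, `W₂` totally isotropic of dimension `e`, `V₀` of
dimension at most one; `d ∈ X` preserves the three spaces, `u ∣ orderOf d` and `d ^ (q ^ (e / 2) + 1)` is nontrivial on `W₁`:
the proportion of the elements with a power `z` of order `u`, `dim [V, z] = 2 e`, is at least `3 / (20 dim V)`.
-/

set_option autoImplicit false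
set_option linter.unusedSectionVars false

namespace Cfsg.Agent.H951.Two

open Module Subgroup Cfsg.Agent.H200.LinFix

section

variable {F V : Type*} [Field F] [AddCommGroup V] [Module F V]

/-- the decomposition -/
structure Split (b : LinearMap.BilinForm F V) (W₁ W₂ V₀ : Submodule F V) (e : ℕ) : Prop where
  sum : ∀ v, ∃ w₁ ∈ W₁, ∃ w₂ ∈ W₂, ∃ w₀ ∈ V₀, v = w₁ + w₂ + w₀
  b11 : ∀ v ∈ W₁, ∀ w ∈ W₁, b v w = 0
  b22 : ∀ v ∈ W₂, ∀ w ∈ W₂, b v w = 0
  b10 : ∀ v ∈ W₁, ∀ w ∈ V₀, b v w = 0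
  b01 : ∀ v ∈ V₀, ∀ w ∈ W₁, b v w = 0
  b20 : ∀ v ∈ W₂, ∀ w ∈ V₀, b v w = 0
  b02 : ∀ v ∈ V₀, ∀ w ∈ W₂, b v w = 0
  f1 : finrank F W₁ = e
  f2 : finrank F W₂ = e
  f0 : finrank F V₀ ≤ 1
  nd1 : ∀ v, (∀ w, b v w = 0) → v = 0
  nd2 : ∀ w, (∀ v, b v w = 0) → w = 0

theorem Split.swap {b : LinearMap.BilinForm F V} {W₁ W₂ V₀ : Submodule F V} {e : ℕ} (h : Split b W₁ W₂ V₀ e) :
    Split b W₂ W₁ V₀ e where
  sum v := by
    obtain ⟨w₁, h1, w₂, h2, w₀, h0, rfl⟩ := h.sum v
    exact ⟨w₂, h2, w₁, h1, w₀, h0, by abel⟩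
  b11 := h.b22
  b22 := h.b11
  b10 := h.b20
  b01 := h.b02
  b20 := h.b10
  b02 := h.b01
  f1 := h.f2
  f2 := h.f1
  f0 := h.f0
  nd1 := h.nd1
  nd2 := h.nd2

/-- left test -/
theorem Split.eq_zero {b : LinearMap.BilinForm F V} {W₁ W₂ V₀ : Submodule F V} {e : ℕ} (h : Split b W₁ W₂ V₀ e) {v : V}
    (h1 : ∀ w ∈ W₁, b v w = 0) (h2 : ∀ w ∈ W₂, b v w = 0) (h0 : ∀ w ∈ V₀, b v w = 0) : v = 0 := by
  apply h.nd1
  intro w
  obtain ⟨w₁, hw1, w₂, hw2, w₀, hw0, rfl⟩ := h.sum w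
  rw [map_add, map_add, h1 _ hw1, h2 _ hw2, h0 _ hw0, add_zero, add_zero]

/-- right test -/
theorem Split.eq_zero' {b : LinearMap.BilinForm F V} {W₁ W₂ V₀ : Submodule F V} {e : ℕ} (h : Split b W₁ W₂ V₀ e) {v : V}
    (h1 : ∀ w ∈ W₁, b w v = 0) (h2 : ∀ w ∈ W₂, b w v = 0) (h0 : ∀ w ∈ V₀, b w v = 0) : v = 0 := by
  apply h.nd2
  intro w
  obtain ⟨w₁, hw1, w₂, hw2, w₀, hw0, rfl⟩ := h.sum w
  rw [map_add, map_add, LinearMap.add_apply, LinearMap.add_apply, h1 _ hw1, h2 _ hw2, h0 _ hw0, add_zero, add_zero]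

variable [Finite F] [Finite V] {X : Type*} [Group X] [Finite X] (ρ : X →* Module.End F V)

/-- the element preserves the subspace -/
def Pres (W : Submodule F V) (x : X) : Prop := ∀ w ∈ W, ρ x w ∈ W

variable {ρ}

theorem Pres.mul {W : Submodule F V} {x y : X} (hx : Pres ρ W x) (hy : Pres ρ W y) : Pres ρ W (x * y) := by
  intro w hw
  rw [map_mul, Module.End.mul_apply]
  exact hx _ (hy _ hw)

theorem Pres.pow {W : Submodule F V} {x : X} (hx : Pres ρ W x) (n : ℕ) : Pres ρ W (x ^ n) := by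
  induction n with
  | zero =>
    intro w hw
    rw [pow_zero, map_one]
    exact hw
  | succ n ih => rw [pow_succ]; exact ih.mul hx

theorem Pres.inv {W : Submodule F V} {x : X} (hx : Pres ρ W x) : Pres ρ W x⁻¹ := by
  have h1 : x⁻¹ = x ^ (orderOf x - 1) := by
    rw [inv_eq_iff_mul_eq_one, ← pow_succ', Nat.sub_add_cancel (orderOf_pos x), pow_orderOf_eq_one]
  rw [h1]
  exact hx.pow _

variable {b : LinearMap.BilinForm F V} (hinv : ∀ h v w, b (ρ h v) (ρ h w) = b v w)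

include hinv

/-- duality -/
theorem Split.dual {W₁ W₂ V₀ : Submodule F V} {e : ℕ} (h : Split b W₁ W₂ V₀ e) {x : X} (hx2 : Pres ρ W₂ x)
    (h1 : ∀ w ∈ W₁, ρ x w = w) : ∀ w ∈ W₂, ρ x w = w := by
  intro w hw
  rw [← sub_eq_zero]
  have hδ : ρ x w - w ∈ W₂ := W₂.sub_mem (hx2 w hw) hw
  refine h.eq_zero' ?_ (fun v hv => h.b22 v hv _ hδ) (fun v hv => h.b02 v hv _ hδ)
  intro v hv
  rw [map_sub]
  nth_rewrite 1 [← h1 v hv]
  rw [hinv, sub_self]

/-- elements of order `u` preserving the spaces are trivial on `V₀` -/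
theorem Split.triv0 {u e : ℕ} [hu : Fact u.Prime] (hd : Ordd u (Nat.card F) e) (he : 2 ≤ e) (huF : (u : F) ≠ 0)
    {W₁ W₂ V₀ : Submodule F V} (h : Split b W₁ W₂ V₀ e) {z : X} (hz : orderOf z = u) (hz0 : Pres ρ V₀ z) :
    ∀ w ∈ V₀, ρ z w = w := by
  have hzp : (ρ z) ^ u = 1 := by rw [← map_pow, ← hz, pow_orderOf_eq_one, map_one]
  have h1 := dvd_finrank_le hd huF hzp (W := V₀ ⊓ R (ρ z)) inf_le_right (fun w hw => ⟨hz0 w hw.1, R_inv rfl hw.2⟩)
  have h2 : finrank F (V₀ ⊓ R (ρ z) : Submodule F V) ≤ 1 := (Submodule.finrank_mono inf_le_left).trans h.f0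
  have h3 : finrank F (V₀ ⊓ R (ρ z) : Submodule F V) = 0 := Nat.eq_zero_of_dvd_of_lt h1 (by omega)
  rw [Submodule.finrank_eq_zero] at h3
  intro w hw
  have h4 : ρ z w - w ∈ V₀ ⊓ R (ρ z) := ⟨V₀.sub_mem (hz0 w hw) hw, sub_mem_R _ w⟩
  rw [h3, Submodule.mem_bot, sub_eq_zero] at h4
  exact h4

/-- elements of order `u` preserving the spaces have `W₁ ≤ R` -/
theorem Split.le_R {u e : ℕ} [hu : Fact u.Prime] (hρ : Function.Injective ρ) (hd : Ordd u (Nat.card F) e)
    (he : 2 ≤ e) (huF : (u : F) ≠ 0)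
    {W₁ W₂ V₀ : Submodule F V} (h : Split b W₁ W₂ V₀ e) {z : X} (hz : orderOf z = u) (hz1 : Pres ρ W₁ z)
    (hz2 : Pres ρ W₂ z) (hz0 : Pres ρ V₀ z) : W₁ ≤ R (ρ z) ∧ Irr (ρ z) W₁ ∧ ∃ w ∈ W₁, ρ z w ≠ w := by
  have hzp : (ρ z) ^ u = 1 := by rw [← map_pow, ← hz, pow_orderOf_eq_one, map_one]
  have h1 := dvd_finrank_le hd huF hzp (W := W₁ ⊓ R (ρ z)) inf_le_right (fun w hw => ⟨hz1 w hw.1, R_inv rfl hw.2⟩)
  have hne : ∃ w ∈ W₁, ρ z w ≠ w := by
    by_contra hcon
    push Not at hcon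
    have h2 := h.dual hinv hz2 hcon
    have h3 := h.triv0 hinv hd he huF hz hz0
    have h4 : ρ z = 1 := by
      refine LinearMap.ext fun v => ?_
      obtain ⟨w₁, hw1, w₂, hw2, w₀, hw0, rfl⟩ := h.sum v
      rw [map_add, map_add, hcon _ hw1, h2 _ hw2, h3 _ hw0]
      rfl
    have h5 : z = 1 := hρ (h4.trans (map_one ρ).symm)
    rw [h5, orderOf_one] at hz
    exact hu.out.one_lt.ne hz
  obtain ⟨w, hw, hwz⟩ := hne
  have h2 : W₁ ⊓ R (ρ z) ≠ ⊥ := by
    intro h3
    have h4 : ρ z w - w ∈ W₁ ⊓ R (ρ z) := ⟨W₁.sub_mem (hz1 w hw) hw, sub_mem_R _ w⟩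
    rw [h3, Submodule.mem_bot, sub_eq_zero] at h4
    exact hwz h4
  have h3 : 0 < finrank F (W₁ ⊓ R (ρ z) : Submodule F V) := by
    have h4 : Nontrivial (W₁ ⊓ R (ρ z) : Submodule F V) := Submodule.nontrivial_iff_ne_bot.2 h2
    exact Module.finrank_pos
  have h4 : W₁ ⊓ R (ρ z) = W₁ := Submodule.eq_of_le_of_finrank_le inf_le_left (by rw [h.f1]; exact Nat.le_of_dvd h3 h1)
  have h5 : W₁ ≤ R (ρ z) := by rw [← h4]; exact inf_le_right
  exact ⟨h5, irr_of_lt hd huF hzp h5 hz1 (by rw [h.f1]; omega), w, hw, hwz⟩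

/-- the good elements -/
structure Good (ρ : X →* Module.End F V) (W₁ W₂ V₀ : Submodule F V) (u k : ℕ) (x : X) : Prop where
  p1 : Pres ρ W₁ x
  p2 : Pres ρ W₂ x
  p0 : Pres ρ V₀ x
  dvd : u ∣ orderOf x
  ne : ∃ w ∈ W₁, ρ (x ^ k) w ≠ w

omit hinv in
theorem Good.swap {W₁ W₂ V₀ : Submodule F V} {u k e : ℕ} {x : X} (hinv : ∀ h v w, b (ρ h v) (ρ h w) = b v w)
    (h : Split b W₁ W₂ V₀ e) (hx : Good ρ W₁ W₂ V₀ u k x) : Good ρ W₂ W₁ V₀ u k x where
  p1 := hx.p2
  p2 := hx.p1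
  p0 := hx.p0
  dvd := hx.dvd
  ne := by
    by_contra hcon
    push Not at hcon
    obtain ⟨w, hw, hne⟩ := hx.ne
    exact hne (h.swap.dual hinv (hx.p1.pow k) hcon w hw)

omit hinv in
theorem irr_of_pow {x : X} {n : ℕ} {W : Submodule F V} (h : Irr (ρ (x ^ n)) W) : Irr (ρ x) W := by
  intro U hU hx
  have h1 : Pres ρ U x := hx
  exact h U hU (h1.pow n)

theorem Good.irr {u e k : ℕ} [hu : Fact u.Prime] (hρ : Function.Injective ρ) (hd : Ordd u (Nat.card F) e)
    (he : 2 ≤ e) (huF : (u : F) ≠ 0) {W₁ W₂ V₀ : Submodule F V} (h : Split b W₁ W₂ V₀ e) {x : X}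
    (hx : Good ρ W₁ W₂ V₀ u k x) : Irr (ρ x) W₁ :=
  irr_of_pow (h.le_R hinv hρ hd he huF (orderOf_pow_orderOf_div (orderOf_pos x).ne' hx.dvd) (hx.p1.pow _)
    (hx.p2.pow _) (hx.p0.pow _)).2.1

/-- **Elements commuting with a good element preserve `W₁`.** -/
theorem Good.pres {u e : ℕ} [hu : Fact u.Prime] (hρ : Function.Injective ρ) (hd : Ordd u (Nat.card F) e)
    (he : 2 ≤ e) (hu2 : u ≠ 2) (huF : (u : F) ≠ 0) {W₁ W₂ V₀ : Submodule F V} (h : Split b W₁ W₂ V₀ e) {x : X}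
    (hx : Good ρ W₁ W₂ V₀ u (Nat.card F ^ (e / 2) + 1) x) {g : X} (hg : Commute g x) : Pres ρ W₁ g := by
  have hirr := hx.irr hinv hρ hd he huF h
  have hcomm : ∀ v, ρ g (ρ x v) = ρ x (ρ g v) := by
    intro v
    rw [← Module.End.mul_apply, ← Module.End.mul_apply, ← map_mul, ← map_mul, hg.eq]
  have hnt : Nontrivial W₁ := by
    apply Module.nontrivial_of_finrank_pos (R := F)
    rw [h.f1]; omega
  -- first claim
  have c1 : ∀ w' ∈ W₁, ∀ w ∈ W₁, b (ρ g w) w' = 0 := by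
    let N : Submodule F V :=
      { carrier := {w' | w' ∈ W₁ ∧ ∀ w ∈ W₁, b (ρ g w) w' = 0}
        add_mem' := fun {v w} hv hw => ⟨W₁.add_mem hv.1 hw.1, fun d hd => by rw [map_add, hv.2 d hd, hw.2 d hd, add_zero]⟩
        zero_mem' := ⟨W₁.zero_mem, fun d _ => map_zero _⟩
        smul_mem' := fun c v hv => ⟨W₁.smul_mem c hv.1, fun d hd => by rw [map_smul, hv.2 d hd, smul_zero]⟩ }
    rcases hirr N (fun w hw => hw.1) (by
      rintro w' ⟨hw', hN⟩
      refine ⟨hx.p1 w' hw', fun w hw => ?_⟩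
      have h1 := hinv x (ρ g (ρ x⁻¹ w)) w'
      rw [← hcomm, apply_inv] at h1
      rw [h1]
      exact hN _ (hx.p1.inv w hw)) with hN | hN
    · exfalso
      let β : LinearMap.BilinForm F W₁ := LinearMap.mk₂ F (fun w w' : W₁ => b (ρ g w) w')
        (fun a c d => by simp) (fun a c d => by simp) (fun a c d => by simp) (fun a c d => by simp)
      have hβ : ∀ w w' : W₁, β w w' = b (ρ g w) w' := fun w w' => rfl
      set x' : Module.End F W₁ := (ρ x).restrict hx.p1 with hx'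
      have hx'a : ∀ w : W₁, ((x' w : W₁) : V) = ρ x w := fun w => rfl
      have hpow : ∀ (n : ℕ) (w : W₁), ((x' ^ n) w : V) = ρ (x ^ n) w := by
        intro n
        induction n with
        | zero => intro w; rw [pow_zero, pow_zero, map_one]; rfl
        | succ n ih =>
          intro w
          rw [pow_succ, pow_succ, Module.End.mul_apply, ih, map_mul, Module.End.mul_apply]
          rfl
      obtain ⟨l, hl⟩ : ∃ l, orderOf x = l + 1 := ⟨orderOf x - 1, by have := orderOf_pos x; omega⟩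
      obtain ⟨m, hm, hmain⟩ := unitary (g := x') (hirr.restrict hx.p1) β (fun v w => by
          rw [hβ, hβ, hx'a, hx'a, hcomm, hinv]) (fun v hv => by
          have h1 : (v : V) ∈ N := ⟨v.2, fun w hw => hv ⟨w, hw⟩⟩
          rw [hN, Submodule.mem_bot] at h1
          exact Subtype.ext h1) (l := l) (by
          refine LinearMap.ext fun w => Subtype.ext ?_
          rw [hpow, ← hl, pow_orderOf_eq_one, map_one]
          rfl) (by
          -- `x'² ≠ 1`
          intro h2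
          obtain ⟨-, -, w, hw, hne⟩ := h.le_R hinv hρ hd he huF (orderOf_pow_orderOf_div (orderOf_pos x).ne' hx.dvd)
            (hx.p1.pow _) (hx.p2.pow _) (hx.p0.pow _)
          apply hne
          set n := orderOf x / u with hn
          have h3 : (x' ^ n) ^ 2 = 1 := by rw [← pow_mul, mul_comm, pow_mul, h2, one_pow]
          have h4 : (x' ^ n) ^ u = 1 := by
            rw [← pow_mul, hn, Nat.div_mul_cancel hx.dvd]
            refine LinearMap.ext fun w => Subtype.ext ?_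
            rw [hpow, pow_orderOf_eq_one, map_one]
            rfl
          have h5 : x' ^ n = 1 := by
            have h6 := Nat.dvd_gcd (orderOf_dvd_of_pow_eq_one h3) (orderOf_dvd_of_pow_eq_one h4)
            rw [((Nat.coprime_primes Nat.prime_two hu.out).2 hu2.symm).gcd_eq_one, Nat.dvd_one,
              orderOf_eq_one_iff] at h6
            exact h6
          have h6 := hpow n ⟨w, hw⟩
          rw [h5] at h6
          exact h6.symm)
      rw [h.f1] at hm
      have hm' : e / 2 = m := by omega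
      have h2 := hmain x' rfl (fun v w => by rw [hβ, hβ, hx'a, hx'a, hcomm, hinv])
      obtain ⟨w, hw, hne⟩ := hx.ne
      apply hne
      have h3 := hpow (Nat.card F ^ m + 1) ⟨w, hw⟩
      rw [h2] at h3
      rw [hm']
      exact h3.symm
    · intro w' hw' w hw
      have h1 : w' ∈ N := by rw [hN]; exact hw'
      exact h1.2 w hw
  -- second claim
  have c2 : ∀ w ∈ W₁, ∀ v ∈ V₀, b (ρ g w) v = 0 := by
    let U : Submodule F V :=
      { carrier := {w | w ∈ W₁ ∧ ∀ v ∈ V₀, b (ρ g w) v = 0}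
        add_mem' := fun {v w} hv hw => ⟨W₁.add_mem hv.1 hw.1, fun d hd => by
          rw [map_add, map_add, LinearMap.add_apply, hv.2 d hd, hw.2 d hd, add_zero]⟩
        zero_mem' := ⟨W₁.zero_mem, fun d _ => by rw [map_zero, map_zero, LinearMap.zero_apply]⟩
        smul_mem' := fun c v hv => ⟨W₁.smul_mem c hv.1, fun d hd => by
          rw [map_smul, map_smul, LinearMap.smul_apply, hv.2 d hd, smul_zero]⟩ }
    rcases hirr U (fun w hw => hw.1) (by
      rintro w ⟨hw, hU⟩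
      refine ⟨hx.p1 w hw, fun v hv => ?_⟩
      have h1 := hinv x (ρ g w) (ρ x⁻¹ v)
      rw [apply_inv] at h1
      rw [hcomm, h1]
      exact hU _ (hx.p0.inv v hv)) with hU | hU
    · exfalso
      let β : W₁ →ₗ[F] (V₀ →ₗ[F] F) := LinearMap.mk₂ F (fun (w : W₁) (v : V₀) => b (ρ g w) v)
        (fun a c d => by simp) (fun a c d => by simp) (fun a c d => by simp) (fun a c d => by simp)
      have hβ : Function.Injective β := by
        rw [← LinearMap.ker_eq_bot, LinearMap.ker_eq_bot']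
        intro w hw
        have h1 : (w : V) ∈ U := ⟨w.2, fun v hv => by
          have h2 := LinearMap.congr_fun hw ⟨v, hv⟩
          exact h2⟩
        rw [hU, Submodule.mem_bot] at h1
        exact Subtype.ext h1
      have h1 := LinearMap.finrank_le_finrank_of_injective hβ
      have h2 : finrank F (V₀ →ₗ[F] F) = finrank F V₀ := Subspace.dual_finrank_eq
      rw [h.f1, h2] at h1
      have := h.f0
      omega
    · intro w hw
      have h1 : w ∈ U := by rw [hU]; exact hw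
      exact h1.2
  -- conclusion
  intro w hw
  obtain ⟨a, ha, c, hc, d, hd', hsum⟩ := h.sum (ρ g w)
  have hc0 : c = 0 := by
    refine h.eq_zero ?_ (h.b22 c hc) (h.b20 c hc)
    intro v hv
    have h1 := c1 v hv w hw
    rw [hsum, map_add, map_add, LinearMap.add_apply, LinearMap.add_apply, h.b11 a ha v hv, h.b01 d hd' v hv,
      zero_add, add_zero] at h1
    exact h1
  have hd0 : d = 0 := by
    refine h.eq_zero (h.b01 d hd') (h.b02 d hd') ?_
    intro v hv
    have h1 := c2 w hw v hv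
    rw [hsum, map_add, map_add, LinearMap.add_apply, LinearMap.add_apply, h.b10 a ha v hv, h.b20 c hc v hv,
      zero_add, zero_add] at h1
    exact h1
  rw [hsum, hc0, hd0, add_zero, add_zero]
  exact ha

/-- elements commuting with a good element preserve the three spaces -/
theorem Good.pres3 {u e : ℕ} [hu : Fact u.Prime] (hρ : Function.Injective ρ) (hd : Ordd u (Nat.card F) e)
    (he : 2 ≤ e) (hu2 : u ≠ 2) (huF : (u : F) ≠ 0) {W₁ W₂ V₀ : Submodule F V} (h : Split b W₁ W₂ V₀ e) {x : X}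
    (hx : Good ρ W₁ W₂ V₀ u (Nat.card F ^ (e / 2) + 1) x) {g : X} (hg : Commute g x) :
    Pres ρ W₁ g ∧ Pres ρ W₂ g ∧ Pres ρ V₀ g := by
  have h1 := hx.pres hinv hρ hd he hu2 huF h hg
  have h2 := (hx.swap hinv h).pres hinv hρ hd he hu2 huF h.swap hg
  refine ⟨h1, h2, fun w hw => ?_⟩
  obtain ⟨a, ha, c, hc, d, hd', hsum⟩ := h.sum (ρ g w)
  have key : ∀ v, b (ρ g w) v = b w (ρ g⁻¹ v) := by
    intro v
    have h3 := hinv g w (ρ g⁻¹ v)
    rwa [apply_inv] at h3
  have hc0 : c = 0 := by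
    refine h.eq_zero ?_ (h.b22 c hc) (h.b20 c hc)
    intro v hv
    have h4 := key v
    rw [h.b01 w hw _ (h1.inv v hv), hsum, map_add, map_add, LinearMap.add_apply, LinearMap.add_apply, h.b11 a ha v hv,
      h.b01 d hd' v hv, zero_add, add_zero] at h4
    exact h4
  have ha0 : a = 0 := by
    refine h.eq_zero (h.b11 a ha) ?_ (h.b10 a ha)
    intro v hv
    have h4 := key v
    rw [h.b02 w hw _ (h2.inv v hv), hsum, map_add, map_add, LinearMap.add_apply, LinearMap.add_apply, h.b22 c hc v hv,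
      h.b02 d hd' v hv, add_zero, add_zero] at h4
    exact h4
  rw [hsum, hc0, ha0, add_zero, zero_add]
  exact hd'

omit hinv in
/-- commuting on a space of dimension at most one -/
theorem comm_of_le_one {V₀ : Submodule F V} (h0 : finrank F V₀ ≤ 1) {g k : X} (hg : Pres ρ V₀ g) (hk : Pres ρ V₀ k)
    {v : V} (hv : v ∈ V₀) : ρ g (ρ k v) = ρ k (ρ g v) := by
  obtain ⟨v₀, hv₀⟩ := finrank_le_one_iff.1 h0
  have h1 : ∀ w ∈ V₀, ∃ c : F, c • (v₀ : V) = w := fun w hw => by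
    obtain ⟨c, hc⟩ := hv₀ ⟨w, hw⟩
    exact ⟨c, congrArg Subtype.val hc⟩
  obtain ⟨c, rfl⟩ := h1 v hv
  obtain ⟨a, ha⟩ := h1 _ (hg v₀ v₀.2)
  obtain ⟨a', ha'⟩ := h1 _ (hk v₀ v₀.2)
  rw [map_smul, map_smul, map_smul, map_smul, ← ha, ← ha', map_smul, map_smul, ← ha, ← ha', smul_smul, smul_smul,
    smul_smul, smul_smul]
  congr 1
  ring

/-- **The centraliser of a good element is abelian.** -/
theorem Good.comm {u e : ℕ} [hu : Fact u.Prime] (hρ : Function.Injective ρ) (hd : Ordd u (Nat.card F) e)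
    (he : 2 ≤ e) (hu2 : u ≠ 2) (huF : (u : F) ≠ 0) {W₁ W₂ V₀ : Submodule F V} (h : Split b W₁ W₂ V₀ e) {x : X}
    (hx : Good ρ W₁ W₂ V₀ u (Nat.card F ^ (e / 2) + 1) x) {g k : X} (hg : Commute g x) (hk : Commute k x) :
    Commute g k := by
  obtain ⟨g1, g2, g0⟩ := hx.pres3 hinv hρ hd he hu2 huF h hg
  obtain ⟨k1, k2, k0⟩ := hx.pres3 hinv hρ hd he hu2 huF h hk
  have hi1 := hx.irr hinv hρ hd he huF h
  have hi2 := (hx.swap hinv h).irr hinv hρ hd he huF h.swap
  have hc : ∀ {a : X}, Commute a x → ∀ v, ρ a (ρ x v) = ρ x (ρ a v) := by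
    intro a ha v
    rw [← Module.End.mul_apply, ← Module.End.mul_apply, ← map_mul, ← map_mul, ha.eq]
  have h1 : ∀ w ∈ W₁, ρ g (ρ k w) = ρ k (ρ g w) := fun w hw =>
    schur hi1 hx.p1 g1 k1 (fun v _ => hc hg v) (fun v _ => hc hk v) hw
  have h2 : ∀ w ∈ W₂, ρ g (ρ k w) = ρ k (ρ g w) := fun w hw =>
    schur hi2 hx.p2 g2 k2 (fun v _ => hc hg v) (fun v _ => hc hk v) hw
  apply hρ
  refine LinearMap.ext fun v => ?_
  obtain ⟨w₁, hw1, w₂, hw2, w₀, hw0, rfl⟩ := h.sum v
  rw [map_mul, map_mul, Module.End.mul_apply, Module.End.mul_apply]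
  simp only [map_add]
  rw [h1 _ hw1, h2 _ hw2, comm_of_le_one h.f0 g0 k0 hw0]

omit hinv in
/-- the regular elements of a group with a central element of order `u` -/
theorem card_reg_mul_le {C : Type*} [Group C] [Finite C] {u : ℕ} [hu : Fact u.Prime] {s : C} (hs : orderOf s = u)
    (hc : ∀ y, Commute y s) : Nat.card {y : C // ¬ u ∣ orderOf y} * u ≤ Nat.card C := by
  have hsu : s ^ u = 1 := by rw [← hs]; exact pow_orderOf_eq_one s
  have h4 : Nat.card ({y : C // ¬ u ∣ orderOf y} × Fin u) = Nat.card {y : C // ¬ u ∣ orderOf y} * u := by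
    rw [Nat.card_prod, Nat.card_eq_fintype_card (α := Fin u), Fintype.card_fin]
  rw [← h4]
  refine Nat.card_le_card_of_injective (fun a : {y : C // ¬ u ∣ orderOf y} × Fin u => a.1.1 * s ^ (a.2 : ℕ)) ?_
  rintro ⟨⟨y, hy⟩, j⟩ ⟨⟨y', hy'⟩, j'⟩ h
  have h5 : y * s ^ (j : ℕ) = y' * s ^ (j' : ℕ) := h
  have h6 : y' = y * s ^ ((j : ℤ) - j') := by
    rw [zpow_sub, zpow_natCast, zpow_natCast, ← mul_assoc, h5]; group
  have h7 : s ^ ((j : ℤ) - j') = 1 := by
    by_contra h8
    have h9 : orderOf (s ^ ((j : ℤ) - j')) = u :=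
      orderOf_eq_prime (by rw [← zpow_natCast, ← zpow_mul, mul_comm, zpow_mul, zpow_natCast, hsu, one_zpow]) h8
    apply hy'
    rw [h6, ((hc y).zpow_right _).orderOf_mul_eq_mul_orderOf_of_coprime (by
      rw [h9]
      exact ((Nat.Prime.coprime_iff_not_dvd hu.out).2 hy).symm), h9]
    exact dvd_mul_left _ _
  have h8 : y' = y := by rw [h6, h7, mul_one]
  have h9 : (j : ℤ) - j' = 0 := by
    have h10 := orderOf_dvd_iff_zpow_eq_one.2 h7
    rw [hs] at h10
    have h11 : |(j : ℤ) - j'| < u := by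
      rw [abs_lt]
      have := j.2
      have := j'.2
      constructor <;> omega
    exact Int.eq_zero_of_abs_lt_dvd h10 h11
  have h10 : j = j' := Fin.ext (by omega)
  subst h8 h10
  rfl

/-- the type of a power of a good element -/
theorem Good.hasType {u e k : ℕ} [hu : Fact u.Prime] (hρ : Function.Injective ρ) (hd : Ordd u (Nat.card F) e)
    (he : 2 ≤ e) (huF : (u : F) ≠ 0) (hdim : finrank F V ≤ 2 * e + 1) {W₁ W₂ V₀ : Submodule F V}
    (h : Split b W₁ W₂ V₀ e) {x : X} (hx : Good ρ W₁ W₂ V₀ u k x) : HasType ρ u (2 * e) x := by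
  refine ⟨hx.dvd, ?_⟩
  set z := x ^ (orderOf x / u) with hz
  have hzu : orderOf z = u := orderOf_pow_orderOf_div (orderOf_pos x).ne' hx.dvd
  have h1 := (h.le_R hinv hρ hd he huF hzu (hx.p1.pow _) (hx.p2.pow _) (hx.p0.pow _)).1
  have h2 := (h.swap.le_R hinv hρ hd he huF hzu (hx.p2.pow _) (hx.p1.pow _) (hx.p0.pow _)).1
  have h3 : W₁ ⊓ W₂ = ⊥ := by
    rw [eq_bot_iff]
    rintro w ⟨hw1, hw2⟩
    rw [Submodule.mem_bot]
    exact h.eq_zero (h.b11 w hw1) (h.b22 w hw2) (h.b10 w hw1)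
  have h4 := Submodule.finrank_sup_add_finrank_inf_eq W₁ W₂
  rw [h3, finrank_bot, add_zero, h.f1, h.f2] at h4
  have h5 : finrank F (W₁ ⊔ W₂ : Submodule F V) ≤ finrank F (R (ρ z)) := Submodule.finrank_mono (sup_le h1 h2)
  have hzp : (ρ z) ^ u = 1 := by rw [← map_pow, ← hzu, pow_orderOf_eq_one, map_one]
  obtain ⟨c, hc⟩ := dvd_finrank_R hd huF hzp
  have h6 : finrank F (R (ρ z)) ≤ finrank F V := Submodule.finrank_le _
  have h7 : c < 3 := by
    by_contra h8
    have : e * 3 ≤ e * c := Nat.mul_le_mul_left _ (by omega)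
    omega
  have h8 : 2 ≤ c := by
    by_contra h8
    have : e * c ≤ e * 1 := Nat.mul_le_mul_left _ (by omega)
    omega
  obtain rfl : c = 2 := by omega
  rw [hc]; ring

/-- the number of elements of the abelian group `C(d)` conjugate to a given element -/
theorem Good.card_conj_le {u e : ℕ} [hu : Fact u.Prime] (hρ : Function.Injective ρ) (hd : Ordd u (Nat.card F) e)
    (he : 2 ≤ e) (hu2 : u ≠ 2) (huF : (u : F) ≠ 0) {W₁ W₂ V₀ : Submodule F V} (h : Split b W₁ W₂ V₀ e) {x : X}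
    (hx : Good ρ W₁ W₂ V₀ u (Nat.card F ^ (e / 2) + 1) x) (y : X) (E : X → Prop) (hE : ∀ z, E z → Commute z x) :
    Nat.card {z : X // E z ∧ IsConj z y} ≤ 2 * finrank F V := by
  classical
  have := Fintype.ofFinite X
  rw [Nat.card_eq_fintype_card, Fintype.card_subtype]
  have hc : ∀ {a : X}, Commute a x → ∀ v, ρ a (ρ x v) = ρ x (ρ a v) := by
    intro a ha v
    rw [← Module.End.mul_apply, ← Module.End.mul_apply, ← map_mul, ← map_mul, ha.eq]
  refine (card_le_natDegree (g := ρ x) (W := W₁) hx.p1 (hx.irr hinv hρ hd he huF h) ?_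
    (f := (ρ y).charpoly) ((ρ y).charpoly_monic).ne_zero _ (fun z => ρ z) (k := 2) ?_ ?_ ?_ ?_).trans ?_
  · intro h1
    have h2 := h.f1
    rw [h1, finrank_bot] at h2
    omega
  · intro z hz
    exact (hx.pres3 hinv hρ hd he hu2 huF h (hE z (Finset.mem_filter.1 hz).2.1)).1
  · intro z hz w _
    exact hc (hE z (Finset.mem_filter.1 hz).2.1) w
  · intro z hz w _
    obtain ⟨g, rfl⟩ := isConj_iff.1 (Finset.mem_filter.1 hz).2.2.symm
    rw [aeval_conj, LinearMap.aeval_self_charpoly, mul_zero, zero_mul]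
    rfl
  · intro z hz Y hY hYz
    have hzc := hE z (Finset.mem_filter.1 hz).2.1
    obtain ⟨z1, z2, z0⟩ := hx.pres3 hinv hρ hd he hu2 huF h hzc
    -- the elements of `Y` agree with `z` on `W₁`, `W₂`
    have hY2 : ∀ a ∈ Y, ∀ w ∈ W₂, ρ a w = ρ z w := by
      intro a ha w hw
      have hac := hE a (Finset.mem_filter.1 (hY ha)).2.1
      obtain ⟨a1, a2, a0⟩ := hx.pres3 hinv hρ hd he hu2 huF h hac
      have h1 := h.dual hinv (x := z⁻¹ * a) (z2.inv.mul a2) (fun w hw => by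
        rw [map_mul, Module.End.mul_apply, hYz a ha w hw, inv_apply]) w hw
      rw [map_mul, Module.End.mul_apply] at h1
      have h2 := congrArg (ρ z) h1
      rwa [apply_inv] at h2
    have hY0 : ∀ a ∈ Y, ∀ a' ∈ Y, (∀ w ∈ V₀, ρ a w = ρ a' w) → a = a' := by
      intro a ha a' ha' h0
      apply hρ
      refine LinearMap.ext fun v => ?_
      obtain ⟨w₁, hw1, w₂, hw2, w₀, hw0, rfl⟩ := h.sum v
      rw [map_add, map_add, map_add, map_add, hYz a ha _ hw1, hYz a' ha' _ hw1, hY2 a ha _ hw2, hY2 a' ha' _ hw2,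
        h0 _ hw0]
    obtain ⟨v₀, hv₀⟩ := finrank_le_one_iff.1 h.f0
    have h1 : ∀ w ∈ V₀, ∃ c : F, w = c • (v₀ : V) := fun w hw => by
      obtain ⟨c, hc⟩ := hv₀ ⟨w, hw⟩
      exact ⟨c, (congrArg Subtype.val hc).symm⟩
    by_cases hv0 : (v₀ : V) = 0
    · refine (Finset.card_le_one.2 fun a ha a' ha' => hY0 a ha a' ha' fun w hw => ?_).trans (by norm_num)
      obtain ⟨c, rfl⟩ := h1 w hw
      rw [hv0, smul_zero, map_zero, map_zero]
    · have hb0 : b v₀ v₀ ≠ 0 := by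
        intro hb0
        apply hv0
        refine h.eq_zero (h.b01 _ v₀.2) (h.b02 _ v₀.2) fun w hw => ?_
        obtain ⟨c, rfl⟩ := h1 w hw
        rw [map_smul, hb0, smul_zero]
      have h2 : ∀ a ∈ Y, ∃ c : F, ρ a v₀ = c • (v₀ : V) ∧ (c = 1 ∨ c = -1) := by
        intro a ha
        have hac := hE a (Finset.mem_filter.1 (hY ha)).2.1
        obtain ⟨a1, a2, a0⟩ := hx.pres3 hinv hρ hd he hu2 huF h hac
        obtain ⟨c, hcv⟩ := h1 _ (a0 v₀ v₀.2)
        refine ⟨c, hcv, ?_⟩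
        have h3 := hinv a v₀ v₀
        rw [hcv] at h3
        simp only [map_smul, LinearMap.smul_apply, smul_eq_mul] at h3
        rw [← mul_assoc] at h3
        have h4 : c * c = 1 := mul_right_cancel₀ hb0 (by rw [h3, one_mul])
        exact mul_self_eq_one_iff.1 h4
      choose! c hc1 hc2 using h2
      have h3 : Y.card ≤ ({1, -1} : Finset F).card := by
        refine Finset.card_le_card_of_injOn c (fun a ha => ?_) (fun a ha a' ha' haa => ?_)
        · have := hc2 a ha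
          simp only [Finset.coe_insert, Finset.coe_singleton, Set.mem_insert_iff, Set.mem_singleton_iff]
          exact this
        · refine hY0 a ha a' ha' fun w hw => ?_
          obtain ⟨t, rfl⟩ := h1 w hw
          rw [map_smul, map_smul, hc1 a ha, hc1 a' ha', haa]
      exact h3.trans (Finset.card_le_two)
  · rw [LinearMap.charpoly_natDegree]

/-- **Elements with a power of type two.** -/
theorem type_two {u e : ℕ} [hu : Fact u.Prime] (hρ : Function.Injective ρ) (hd : Ordd u (Nat.card F) e)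
    (he : 2 ≤ e) (h5 : 5 ≤ u) (huF : (u : F) ≠ 0) (hdim : finrank F V ≤ 2 * e + 1) {W₁ W₂ V₀ : Submodule F V}
    (h : Split b W₁ W₂ V₀ e) {d : X} (hdg : Good ρ W₁ W₂ V₀ u (Nat.card F ^ (e / 2) + 1) d) :
    3 * Nat.card X ≤ 20 * (finrank F V * Nat.card {y : X // HasType ρ u (2 * e) y}) := by
  classical
  have := Fintype.ofFinite X
  have hu2 : u ≠ 2 := by omega
  set k := Nat.card F ^ (e / 2) + 1 with hk
  set C := centralizer ({d} : Set X) with hC
  have hCm : ∀ {x : X}, x ∈ C ↔ Commute x d := fun {x} => by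
    rw [hC, mem_centralizer_singleton_iff]
    rfl
  have hCc : ∀ {x y : X}, x ∈ C → y ∈ C → Commute x y := fun hx hy =>
    hdg.comm hinv hρ hd he hu2 huF h (hCm.1 hx) (hCm.1 hy)
  let E : X → Prop := fun x => x ∈ C ∧ u ∣ orderOf x ∧ ∃ w ∈ W₁, ρ (x ^ k) w ≠ w
  have hEg : ∀ x, E x → Good ρ W₁ W₂ V₀ u k x := by
    rintro x ⟨hx, h1, h2⟩
    obtain ⟨x1, x2, x0⟩ := hdg.pres3 hinv hρ hd he hu2 huF h (hCm.1 hx)
    exact ⟨x1, x2, x0, h1, h2⟩
  have hEc : ∀ x, E x → Nat.card (centralizer ({x} : Set X)) = Nat.card C := by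
    intro x hx
    have h1 : centralizer ({x} : Set X) = C := by
      apply le_antisymm
      · intro g hg
        have hg' : Commute g x := mem_centralizer_singleton_iff.1 hg
        exact hCm.2 ((hEg x hx).comm hinv hρ hd he hu2 huF h hg' (hCm.1 hx.1).symm)
      · intro g hg
        exact mem_centralizer_singleton_iff.2 (hCc hg hx.1).eq
    rw [h1]
  have h1 := double_count' E hEc (fun y => HasType ρ u (2 * e) y) (M := 2 * finrank F V) (by
      intro x y hx hxy
      obtain ⟨g, rfl⟩ := isConj_iff.1 hxy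
      exact ((hEg x hx).hasType hinv hρ hd he huF hdim h).conj ρ g)
    (fun y _ => hdg.card_conj_le hinv hρ hd he hu2 huF h y E (fun z hz => hCm.1 hz.1))
  -- the number of good elements
  have hdC : d ∈ C := hCm.2 (Commute.refl d)
  have hreg : Nat.card {y : C // ¬ u ∣ orderOf y} * u ≤ Nat.card C := by
    refine card_reg_mul_le (s := (⟨d ^ (orderOf d / u), pow_mem hdC _⟩ : C)) ?_ fun y => ?_
    · rw [Subgroup.orderOf_mk]
      exact orderOf_pow_orderOf_div (orderOf_pos d).ne' hdg.dvd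
    · exact Subtype.ext (hCc y.2 (pow_mem hdC _)).eq
  have hbad : 2 * Nat.card {y : C // ∀ w ∈ W₁, ρ ((y : X) ^ k) w = w} ≤ Nat.card C := by
    let B : Subgroup C :=
      { carrier := {y | ∀ w ∈ W₁, ρ ((y : X) ^ k) w = w}
        mul_mem' := fun {a c} ha hc w hw => by
          rw [Subgroup.coe_mul, (hCc a.2 c.2).mul_pow, map_mul, Module.End.mul_apply, hc w hw, ha w hw]
        one_mem' := fun w _ => by rw [Subgroup.coe_one, one_pow, map_one]; rfl
        inv_mem' := fun {a} ha w hw => by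
          have h2 := ha w hw
          have h3 := congrArg (ρ ((a : X) ^ k)⁻¹) h2
          rw [inv_apply] at h3
          rw [Subgroup.coe_inv, inv_pow]
          exact h3.symm }
    have hB : B.index ≠ 1 := by
      intro hB
      rw [Subgroup.index_eq_one] at hB
      obtain ⟨w, hw, hne⟩ := hdg.ne
      have h2 : (⟨d, hdC⟩ : C) ∈ B := by rw [hB]; exact mem_top _
      exact hne (h2 w hw)
    have hB0 : B.index ≠ 0 := Subgroup.index_ne_zero_of_finite
    have hB1 := B.card_mul_index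
    have hB2 : Nat.card B = Nat.card {y : C // ∀ w ∈ W₁, ρ ((y : X) ^ k) w = w} := rfl
    rw [← hB2]
    calc 2 * Nat.card B = Nat.card B * 2 := mul_comm _ _
      _ ≤ Nat.card B * B.index := Nat.mul_le_mul_left _ (by omega)
      _ = Nat.card C := hB1
  have hcov : Nat.card C ≤ Nat.card {x : X // E x} + (Nat.card {y : C // ¬ u ∣ orderOf y} +
      Nat.card {y : C // ∀ w ∈ W₁, ρ ((y : X) ^ k) w = w}) := by
    rw [← Nat.card_sum, ← Nat.card_sum]
    refine Nat.card_le_card_of_injective (fun y : C =>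
      if h1 : u ∣ orderOf y then
        if h2 : ∀ w ∈ W₁, ρ ((y : X) ^ k) w = w then Sum.inr (Sum.inr ⟨y, h2⟩)
        else Sum.inl ⟨y.1, y.2, by rw [Subgroup.orderOf_coe]; exact h1, by push Not at h2; exact h2⟩
      else Sum.inr (Sum.inl ⟨y, h1⟩)) ?_
    intro y y' hyy
    dsimp only at hyy
    split_ifs at hyy
    all_goals first
      | exact Subtype.mk.inj (Sum.inr.inj (Sum.inr.inj hyy))
      | exact Subtype.ext (Subtype.mk.inj (Sum.inl.inj hyy))
      | exact Subtype.mk.inj (Sum.inl.inj (Sum.inr.inj hyy))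
      | cases (Sum.inr.inj hyy)
  have hreg' : Nat.card {y : C // ¬ u ∣ orderOf y} * 5 ≤ Nat.card {y : C // ¬ u ∣ orderOf y} * u :=
    Nat.mul_le_mul_left _ h5
  have hE3 : 3 * Nat.card C ≤ 10 * Nat.card {x : X // E x} := by omega
  have h4 : Nat.card C ≠ 0 := Nat.card_pos.ne'
  have h6 : Nat.card C * (3 * Nat.card X) ≤
      Nat.card C * (20 * (finrank F V * Nat.card {y : X // HasType ρ u (2 * e) y})) := by
    calc Nat.card C * (3 * Nat.card X) = (3 * Nat.card C) * Nat.card X := by ring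
      _ ≤ (10 * Nat.card {x : X // E x}) * Nat.card X := Nat.mul_le_mul_right _ hE3
      _ = 10 * (Nat.card X * Nat.card {x : X // E x}) := by ring
      _ ≤ 10 * (Nat.card C * (2 * finrank F V * Nat.card {y : X // HasType ρ u (2 * e) y})) := Nat.mul_le_mul_left _ h1
      _ = _ := by ring
  exact Nat.le_of_mul_le_mul_left h6 (Nat.pos_of_ne_zero h4)

end

end Cfsg.Agent.H951.Two
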